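import Cfsg.Agent.Lib.Star.Pieces
import Cfsg.Agent.Lib.Blocks.Watanabe

/-!
# The star construction as a matrix on a block

For a function `φ` on `G` stable on the pairs below `(P, e)`, `mat φ` is the matrix of the scalar
products `(φ * χ, ψ)` for `χ, ψ ∈ B`.

* `isStable_of_invariant`: with `P` abelian, invariance under the stabiliser gives stability;
* `mat_one`, `mat_mul`, `mat_add`, `mat_smul`, `mat_symm`: an algebra morphism;
* `exists_int`: integral for generalised characters; `trace_mat`: the trace by local ranks;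
* `row_ne_zero`: a row is non-zero if a piece is non-zero where `φ` is non-zero.
-/

set_option autoImplicit false
set_option synthInstance.maxHeartbeats 200000
set_option maxHeartbeats 1000000
set_option linter.unusedSectionVars false

open scoped ComplexConjugate

namespace Cfsg.Agent.StarMat

open Cfsg Cfsg.Agent.Blocks Cfsg.Agent.BrauerPairs Cfsg.Agent.SecondMain Cfsg.Agent.Star
open Cfsg.Agent.LocalRank

universe u

variable {G : Type u} [Group G] [Finite G] {p : ℕ} [Fact p.Prime] {M : Ideal AlgInt}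
  {B : Set (IrrCharacter G)} {P : Subgroup G}
  {e : Set (IrrCharacter (Subgroup.centralizer (P : Set G)))} {φ φ' : G → ℂ}

/-- Invariance under the stabiliser of the maximal pair gives stability. -/
theorem isStable_of_invariant (hM : IsPModular p M) (hmax : IsMaximalBrauerPair p M B P e)
    (hab : ∀ x ∈ P, ∀ y ∈ P, x * y = y * x)
    (h : ∀ t ∈ pairStab M P e, ∀ v ∈ P, φ (t * v * t⁻¹) = φ v) : IsStable p M P e φ := by
  intro a u x y ha hb hx hy
  have hz : conjIdx (y * x⁻¹) (conjIdx x a) = conjIdx y a := by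
    rw [conjIdx_conjIdx hM _ _ hb, inv_mul_cancel_right]
  obtain ⟨c, hc, hct⟩ := KleinDefect.fusion_of_abelian hM hmax hab
    (Q := (conjIdx x a).1) (f := (conjIdx x a).2) (Q' := (conjIdx y a).1) (f' := (conjIdx y a).2)
    hx (isPBlock_conjBlock _ _ hb) hy hz
  have hmem : y * u * y⁻¹ ∈ (conjIdx y a).1 := mem_conjSub.2 (by rw [ha]; simp [mul_assoc])
  have hcm := Subgroup.mem_centralizer_iff.1 hc _ hmem
  have e1 : c * (y * x⁻¹) * (x * u * x⁻¹) * (c * (y * x⁻¹))⁻¹ = y * u * y⁻¹ := by
    calc _ = c * (y * u * y⁻¹) * c⁻¹ := by group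
      _ = _ := by rw [← hcm, mul_inv_cancel_right]
  rw [← h _ hct _ (conjIdx_mem_P (p := p) ha hx), e1]

theorem gwgt_mul (φ φ' : G → ℂ) (u : G) (a : BrauerPairIdx G) :
    gwgt p M P e (φ * φ') u a = gwgt p M P e φ u a * gwgt p M P e φ' u a := by
  simp only [gwgt, Pi.mul_apply]
  split_ifs <;> simp

theorem gwgt_add (φ φ' : G → ℂ) (u : G) (a : BrauerPairIdx G) :
    gwgt p M P e (φ + φ') u a = gwgt p M P e φ u a + gwgt p M P e φ' u a := by
  simp only [gwgt, Pi.add_apply]
  split_ifs <;> simp

theorem gwgt_smul (c : ℂ) (φ : G → ℂ) (u : G) (a : BrauerPairIdx G) :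
    gwgt p M P e (c • φ) u a = c * gwgt p M P e φ u a := by
  simp only [gwgt, Pi.smul_apply, smul_eq_mul]
  split_ifs <;> simp

theorem gwgt_conj_of_real (h : ∀ x, conj (φ x) = φ x) (u : G) (a : BrauerPairIdx G) :
    conj (gwgt p M P e φ u a) = gwgt p M P e φ u a := by
  simp only [gwgt]
  split_ifs
  · exact h _
  · exact map_zero _

theorem gwgt_one (hM : IsPModular p M) (hmax : IsMaximalBrauerPair p M B P e) {u : G}
    {a : BrauerPairIdx G} (haB : IsBrauerPairOf p M B a.1 a.2) :
    gwgt p M P e 1 u a = 1 := by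
  have h : ∃ x : G, SubpairLE p M (conjIdx x a).1 (conjIdx x a).2 P e :=
    exists_conj_le_maximal hM hmax haB
  rw [gwgt, dif_pos h]
  rfl

theorem gstar_sum (φ : G → ℂ) {ι : Type*} (s : Finset ι) (c : ι → ℂ) (f : ι → G → ℂ) (g : G) :
    gstar p M P e φ (∑ i ∈ s, c i • f i) g = ∑ i ∈ s, c i * gstar p M P e φ (f i) g := by
  have := Fintype.ofFinite G
  simp only [gstar, piece_def, Finset.sum_apply, Pi.smul_apply, smul_eq_mul, Finset.mul_sum]
  rw [Finset.sum_comm (s := s)]
  refine Finset.sum_congr rfl fun a _ => ?_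
  rw [Finset.sum_comm (s := s)]
  exact Finset.sum_congr rfl fun x _ => Finset.sum_congr rfl fun i _ => by ring

/-- A piece of a star construction. -/
theorem piece_gstar (hM : IsPModular p M) (hmax : IsMaximalBrauerPair p M B P e)
    (hst : IsStable p M P e φ) {χ : G → ℂ} (hχ : IsClassFunction G χ) {u s : G}
    (hu : ∃ k, orderOf u = p ^ k) (hs : ¬ p ∣ orderOf s) (hc : Commute u s) {a : BrauerPairIdx G}
    (ha : a ∈ pairsAt M u) (haB : IsBrauerPairOf p M B a.1 a.2) :
    piece a (gstar p M P e φ χ) (u * s) = gwgt p M P e φ u a * piece a χ (u * s) := by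
  classical
  have hmem := mem_pairsAt.1 ha
  obtain ⟨V, A⟩ := a
  obtain rfl : V = Subgroup.zpowers u := hmem.1
  have := Fintype.ofFinite (Subgroup.centralizer (Subgroup.zpowers u : Set G))
  have := Fintype.ofFinite (IrrCharacter (Subgroup.centralizer (Subgroup.zpowers u : Set G)))
  let s' : (Subgroup.centralizer (Subgroup.zpowers u : Set G)) := ⟨s, mem_centralizer_zpowers_iff.2 hc⟩
  have hs' : ¬ p ∣ orderOf s' := by rw [← Subgroup.orderOf_coe]; exact hs
  set θ := fun c : (Subgroup.centralizer (Subgroup.zpowers u : Set G)) => χ (u * (c : G)) with hθdef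
  rw [show s = (s' : G) from rfl,
    piece_eq_blockPart A (isClassFunction_gstar hM hst hχ) s', piece_eq_blockPart A hχ s']
  rw [blockPart_congr_regular hM hmem.2 (θ' := ∑ b ∈ (blocks M (Subgroup.centralizer (Subgroup.zpowers u : Set G))).filter
      (fun b => IsBrauerPairOf p M B (Subgroup.zpowers u) b),
      gwgt p M P e φ u ⟨Subgroup.zpowers u, b⟩ • fun c => blockPart b θ c) (fun c hc' => ?_) hs']
  · rw [blockPart_sum_smul, Finset.sum_eq_single A]
    · congr 1
      rw [blockPart_eq_sum_classInner, blockPart_eq_sum_classInner]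
      refine Finset.sum_congr rfl fun η _ => ?_
      congr 1
      rw [show (fun c => blockPart A θ c) = ∑ ζ ∈ A.toFinset,
          classInner θ (ζ : (Subgroup.centralizer (Subgroup.zpowers u : Set G)) → ℂ) • (ζ : (Subgroup.centralizer (Subgroup.zpowers u : Set G)) → ℂ) from ?_,
        Char.classInner_sum_smul _ _ _ (Set.mem_toFinset.2 η.2)]
      funext c
      rw [blockPart_apply, finsum_mem_eq_toFinset_sum, Finset.sum_apply]
      rfl
    · intro b hb hne
      refine mul_eq_zero_of_right _ ?_
      rw [blockPart_eq_sum_classInner]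
      refine Finset.sum_eq_zero fun η _ => mul_eq_zero_of_left ?_ _
      have hbb : IsPBlock M b := mem_blocks.1 (Finset.mem_filter.1 hb).1
      rw [show (fun c => blockPart b θ c) = ∑ ζ ∈ b.toFinset,
          classInner θ (ζ : (Subgroup.centralizer (Subgroup.zpowers u : Set G)) → ℂ) • (ζ : (Subgroup.centralizer (Subgroup.zpowers u : Set G)) → ℂ) from ?_]
      · rw [Char.classInner_sum_left]
        refine Finset.sum_eq_zero fun ζ hζ => ?_
        rw [Char.classInner_smul_left, Char.classInner_irr_of_ne ζ.2 (η : IrrCharacter (Subgroup.centralizer (Subgroup.zpowers u : Set G))).2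
          (fun h => hne (isPBlock_eq_of_mem hM hbb hmem.2 (Set.mem_toFinset.1 hζ)
            (by rw [Subtype.ext h]; exact η.2))), mul_zero]
      funext c
      rw [blockPart_apply, finsum_mem_eq_toFinset_sum, Finset.sum_apply]
      rfl
    · exact fun h => absurd (Finset.mem_filter.2 ⟨mem_blocks.2 hmem.2, haB⟩) h
  · show gstar p M P e φ χ (u * (c : G)) = _
    rw [gstar_apply hM hmax χ hu (by rw [Subgroup.orderOf_coe]; exact hc')
      (mem_centralizer_zpowers_iff.1 c.2), Finset.sum_filter, sum_pairsAt, ← Finset.sum_filter,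
      Finset.sum_apply]
    refine Finset.sum_congr rfl fun b _ => ?_
    rw [Pi.smul_apply, smul_eq_mul, piece_eq_blockPart b hχ c]

/-- The star constructions compose by multiplication. -/
theorem gstar_gstar (hM : IsPModular p M) (hmax : IsMaximalBrauerPair p M B P e)
    (hst : IsStable p M P e φ') {χ : G → ℂ} (hχ : IsClassFunction G χ) :
    gstar p M P e φ (gstar p M P e φ' χ) = gstar p M P e (φ * φ') χ := by
  classical
  funext g
  obtain ⟨u, s, rfl, hu, hs, hc, -⟩ := exists_parts (p := p) g
  rw [gstar_apply hM hmax _ hu hs hc, gstar_apply hM hmax χ hu hs hc]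
  refine Finset.sum_congr rfl fun a ha => ?_
  obtain ⟨ha, haB⟩ := Finset.mem_filter.1 ha
  rw [piece_gstar hM hmax hst hχ hu hs hc ha haB, gwgt_mul, mul_assoc]

/-- Pieces at different pairs are orthogonal on a section. -/
theorem piece_cross (hM : IsPModular p M) {u : G} {a b : BrauerPairIdx G} (ha : a ∈ pairsAt M u)
    (hb : b ∈ pairsAt M u) (hab : a ≠ b) {χ ψ : G → ℂ} (hχ : IsClassFunction G χ)
    (hψ : IsClassFunction G ψ) :
    ∑ s ∈ regSet p u, piece a χ (u * s) * conj (piece b ψ (u * s)) = 0 := by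
  classical
  obtain ⟨h1, h2⟩ := mem_pairsAt.1 ha
  obtain ⟨h3, h4⟩ := mem_pairsAt.1 hb
  obtain ⟨V, A⟩ := a
  obtain rfl : V = Subgroup.zpowers u := h1
  obtain ⟨W, A'⟩ := b
  obtain rfl : W = Subgroup.zpowers u := h3
  have := Fintype.ofFinite (Subgroup.centralizer (Subgroup.zpowers u : Set G))
  rw [sum_regSet u]
  simp only [piece_eq_blockPart _ hχ, piece_eq_blockPart _ hψ]
  exact sum_reg_blockPart_mul_eq_zero hM h2 h4 (fun h => hab (by rw [show A = A' from h])) _ _

/-- Scalar products of star constructions of two characters. -/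
theorem classInner_gstar_cross [Fintype G] (hM : IsPModular p M)
    (hmax : IsMaximalBrauerPair p M B P e) {χ ψ : G → ℂ} (hχ : IsClassFunction G χ)
    (hψ : IsClassFunction G ψ) :
    classInner (gstar p M P e φ χ) (gstar p M P e φ' ψ) = (Nat.card G : ℂ)⁻¹ *
      ∑ q ∈ secIdx p M B, gwgt p M P e φ q.1 q.2 * conj (gwgt p M P e φ' q.1 q.2) *
        ∑ s ∈ regSet p q.1, piece q.2 χ (q.1 * s) * conj (piece q.2 ψ (q.1 * s)) := by
  classical
  rw [classInner, sum_by_sections (p := p)]
  congr 1
  rw [secIdx, Finset.sum_sigma]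
  refine Finset.sum_congr rfl fun u hu => ?_
  replace hu : ∃ k, orderOf u = p ^ k := by simpa using hu
  set S := (pairsAt M u).filter fun a => IsBrauerPairOf p M B a.1 a.2
  rw [Finset.sum_congr rfl fun s hs => show _ =
      (∑ a ∈ S, gwgt p M P e φ u a * piece a χ (u * s)) *
        conj (∑ a ∈ S, gwgt p M P e φ' u a * piece a ψ (u * s)) by
    obtain ⟨hc, hr⟩ := mem_regSet.1 hs
    rw [gstar_apply hM hmax χ hu hr hc, gstar_apply hM hmax ψ hu hr hc]]
  simp only [map_sum, map_mul, Finset.sum_mul, Finset.mul_sum]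
  rw [Finset.sum_comm]
  refine Finset.sum_congr rfl fun a ha => ?_
  rw [Finset.sum_comm, Finset.sum_eq_single a]
  · exact Finset.sum_congr rfl fun s _ => by ring
  · intro b hb hne
    rw [← mul_zero (gwgt p M P e φ u b * conj (gwgt p M P e φ' u a)),
      ← piece_cross hM (Finset.mem_filter.1 hb).1 (Finset.mem_filter.1 ha).1 hne hχ hψ,
      Finset.mul_sum]
    exact Finset.sum_congr rfl fun s _ => by ring
  · exact fun h => absurd ha h

theorem gstar_one (hM : IsPModular p M) (hmax : IsMaximalBrauerPair p M B P e)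
    {χ : IrrCharacter G} (hχ : χ ∈ B) : gstar p M P e 1 (χ : G → ℂ) = (χ : G → ℂ) := by
  classical
  funext g
  obtain ⟨u, s, rfl, hu, hs, hc, -⟩ := exists_parts (p := p) g
  rw [gstar_apply hM hmax _ hu hs hc, ← sum_piece_pairs hM hu hs hc hmax.1.2.1 hχ]
  refine Finset.sum_congr rfl fun a ha => ?_
  rw [gwgt_one hM hmax (Finset.mem_filter.1 ha).2, one_mul]

/-- A star construction stays in the block. -/
theorem classInner_eq_zero [Fintype G] (hM : IsPModular p M) (hmax : IsMaximalBrauerPair p M B P e)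
    {χ : G → ℂ} (hχ : IsClassFunction G χ) {ψ : IrrCharacter G} (hψ : ψ ∉ B) :
    classInner (gstar p M P e φ χ) (ψ : G → ℂ) = 0 := by
  classical
  rw [classInner, sum_by_sections (p := p)]
  refine mul_eq_zero_of_right _ (Finset.sum_eq_zero fun u hu => ?_)
  replace hu : ∃ k, orderOf u = p ^ k := by simpa using hu
  set B' := blockOf M (ψ : G → ℂ)
  have hB' : IsPBlock M B' := ⟨ψ, rfl⟩
  rw [Finset.sum_congr rfl fun s hs => show _ =
      (∑ a ∈ (pairsAt M u).filter (fun a => IsBrauerPairOf p M B a.1 a.2),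
        gwgt p M P e φ u a * piece a χ (u * s)) *
        conj (∑ b ∈ (pairsAt M u).filter (fun a => IsBrauerPairOf p M B' a.1 a.2),
          piece b (ψ : G → ℂ) (u * s)) by
    obtain ⟨hc, hr⟩ := mem_regSet.1 hs
    rw [gstar_apply hM hmax χ hu hr hc,
      sum_piece_pairs hM hu hr hc hB' (mem_blockOf_self hM ψ)]]
  simp only [map_sum, Finset.sum_mul, Finset.mul_sum]
  rw [Finset.sum_comm]
  refine Finset.sum_eq_zero fun b hb => ?_
  rw [Finset.sum_comm]
  refine Finset.sum_eq_zero fun a ha => ?_
  obtain ⟨ha1, ha2⟩ := Finset.mem_filter.1 ha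
  obtain ⟨hb1, hb2⟩ := Finset.mem_filter.1 hb
  have hne : a ≠ b := by
    rintro rfl
    obtain ⟨h1, -⟩ := mem_pairsAt.1 ha1
    obtain ⟨V, A⟩ := a
    obtain rfl : V = Subgroup.zpowers u := h1
    refine hψ ?_
    rw [← induced_unique hM (induced_of_brauerPair hM hu hb2) (induced_of_brauerPair hM hu ha2)]
    exact mem_blockOf_self hM ψ
  rw [← mul_zero (gwgt p M P e φ u a),
    ← piece_cross hM ha1 hb1 hne hχ (irr_class ψ), Finset.mul_sum]
  exact Finset.sum_congr rfl fun s _ => by ring

variable [Fintype G]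

/-- The matrix of the star construction by `φ` on the block. -/
noncomputable def mat (p : ℕ) (M : Ideal AlgInt) (B : Set (IrrCharacter G)) (P : Subgroup G)
    (e : Set (IrrCharacter (Subgroup.centralizer (P : Set G)))) (φ : G → ℂ) : Matrix B B ℂ :=
  fun χ ψ => classInner (gstar p M P e φ ((χ : IrrCharacter G) : G → ℂ))
    ((ψ : IrrCharacter G) : G → ℂ)

theorem mat_one [DecidableEq B] (hM : IsPModular p M) (hmax : IsMaximalBrauerPair p M B P e) :
    mat p M B P e 1 = 1 := by
  funext χ ψ
  show classInner _ _ = _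
  rw [gstar_one hM hmax χ.2, Matrix.one_apply]
  split_ifs with h
  · subst h
    exact Char.classInner_irr_self (χ : IrrCharacter G).2
  · exact Char.classInner_irr_of_ne (χ : IrrCharacter G).2 (ψ : IrrCharacter G).2
      fun h' => h (Subtype.ext (Subtype.ext h'))

theorem mat_add (φ φ' : G → ℂ) :
    mat p M B P e (φ + φ') = mat p M B P e φ + mat p M B P e φ' := by
  funext χ ψ
  show classInner _ _ = classInner _ _ + classInner _ _
  rw [← Char.classInner_add_left]
  congr 1
  funext g
  simp only [gstar, gwgt_add, add_mul, Finset.sum_add_distrib, Pi.add_apply]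

theorem mat_smul (c : ℂ) (φ : G → ℂ) : mat p M B P e (c • φ) = c • mat p M B P e φ := by
  funext χ ψ
  show classInner _ _ = c * classInner _ _
  rw [← Char.classInner_smul_left]
  congr 1
  funext g
  simp only [gstar, gwgt_smul, Finset.mul_sum, Pi.smul_apply, smul_eq_mul, mul_assoc]

/-- A star construction expanded in the block. -/
theorem gstar_eq_sum [Fintype B] (hM : IsPModular p M) (hmax : IsMaximalBrauerPair p M B P e)
    (hst : IsStable p M P e φ) (χ : B) :
    gstar p M P e φ ((χ : IrrCharacter G) : G → ℂ) =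
      ∑ θ : B, mat p M B P e φ χ θ • ((θ : IrrCharacter G) : G → ℂ) := by
  classical
  have := Fintype.ofFinite (IrrCharacter G)
  conv_lhs => rw [Char.classFunction_eq_sum
    (isClassFunction_gstar hM hst (irr_class (χ : IrrCharacter G)))]
  rw [← Finset.sum_subset (Finset.subset_univ B.toFinset) fun θ _ hθ => by
    rw [classInner_eq_zero hM hmax (irr_class _) fun h => hθ (Set.mem_toFinset.2 h), zero_smul],
    Finset.sum_subtype B.toFinset fun _ => Set.mem_toFinset]
  rfl

theorem mat_mul [Fintype B] (hM : IsPModular p M) (hmax : IsMaximalBrauerPair p M B P e)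
    (hst : IsStable p M P e φ') :
    mat p M B P e (φ * φ') = mat p M B P e φ' * mat p M B P e φ := by
  funext χ ψ
  rw [Matrix.mul_apply]
  show classInner _ _ = _
  rw [← gstar_gstar hM hmax hst (irr_class (χ : IrrCharacter G)), gstar_eq_sum hM hmax hst χ]
  have hlin : gstar p M P e φ (∑ θ : B, mat p M B P e φ' χ θ • ((θ : IrrCharacter G) : G → ℂ)) =
      ∑ θ : B, mat p M B P e φ' χ θ • gstar p M P e φ ((θ : IrrCharacter G) : G → ℂ) := by
    funext g
    rw [gstar_sum, Finset.sum_apply]
    rfl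
  rw [hlin, Char.classInner_sum_left]
  exact Finset.sum_congr rfl fun θ _ => Char.classInner_smul_left _ _ _

theorem mat_symm (hM : IsPModular p M) (hmax : IsMaximalBrauerPair p M B P e)
    (hreal : ∀ x, conj (φ x) = φ x) (χ ψ : B) :
    conj (mat p M B P e φ χ ψ) = mat p M B P e φ ψ χ := by
  show conj (classInner _ _) = classInner _ _
  conv_lhs => rw [← gstar_one hM hmax ψ.2]
  conv_rhs => rw [← gstar_one hM hmax χ.2]
  rw [classInner_gstar_cross hM hmax (irr_class _) (irr_class _),
    classInner_gstar_cross hM hmax (irr_class _) (irr_class _), map_mul, map_inv₀, map_natCast,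
    map_sum]
  congr 1
  refine Finset.sum_congr rfl fun q hq => ?_
  have haB : IsBrauerPairOf p M B q.2.1 q.2.2 := ((mem_secIdx (u := q.1) (a := q.2)).1 hq).2.2
  rw [map_mul, map_mul, Complex.conj_conj, gwgt_one hM hmax haB, gwgt_conj_of_real hreal, map_one,
    map_sum]
  congr 1
  exact Finset.sum_congr rfl fun s _ => by rw [map_mul, Complex.conj_conj, mul_comm]

theorem exists_int (hM : IsPModular p M) (hmax : IsMaximalBrauerPair p M B P e)
    (hst : IsStable p M P e φ) (hφ : IsGeneralizedCharacter P fun x : P => φ x) (χ ψ : B) :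
    ∃ n : ℤ, mat p M B P e φ χ ψ = n :=
  Char.IsGeneralizedCharacter.classInner_int
    (isGeneralizedCharacter_gstar hM hmax hst hφ (Char.IsIrrCharacter.isCharacter (χ : IrrCharacter G).2))
    (Char.isGeneralizedCharacter_of_isCharacter
      (Char.IsIrrCharacter.isCharacter (ψ : IrrCharacter G).2))

open scoped Classical in
theorem trace_mat [Fintype P] [Fintype B] (hM : IsPModular p M)
    (hmax : IsMaximalBrauerPair p M B P e) (hab : ∀ x ∈ P, ∀ y ∈ P, x * y = y * x)
    (hst : IsStable p M P e φ) :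
    Matrix.trace (mat p M B P e φ) = ∑ v : P, Watanabe.wt M P e v *
      (φ (v : G) * (lrank p M P e (Subgroup.zpowers (v : G)) : ℂ)) := by
  have hB := hmax.1.2.1
  have hPe := hmax.1.1
  have := Fintype.ofFinite (IrrCharacter G)
  have hw : ∀ v : P, gwgt p M P e φ (v : G) (Watanabe.below hM hPe v) = φ (v : G) := fun v => by
    rw [gwgt_eq hM hst (u := (v : G)) (x := 1) rfl (Watanabe.below_isPBlock hM hPe v)
      (by rw [conjIdx_one hM (Watanabe.below_isPBlock hM hPe v)]; exact Watanabe.below_le hM hPe v),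
      one_mul, inv_one, mul_one]
  have key : Matrix.trace (mat p M B P e φ) = (Nat.card G : ℂ)⁻¹ *
      ∑ u ∈ (Set.toFinite {u : G | ∃ k, orderOf u = p ^ k}).toFinset,
        ∑ a ∈ (pairsAt M u).filter (fun a => IsBrauerPairOf p M B a.1 a.2),
          (Nat.card (Subgroup.centralizer (Subgroup.zpowers u : Set G)) : ℂ) *
            (gwgt p M P e φ u a * (blockRank p a.2 : ℂ)) := by
    rw [Matrix.trace, Finset.sum_congr rfl fun χ _ => show Matrix.diag (mat p M B P e φ) χ =
      classInner (gstar p M P e φ ((χ : IrrCharacter G) : G → ℂ))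
        (gstar p M P e 1 ((χ : IrrCharacter G) : G → ℂ)) by rw [gstar_one hM hmax χ.2]; rfl]
    simp only [classInner_gstar_cross hM hmax (irr_class _) (irr_class _)]
    rw [← Finset.mul_sum, Finset.sum_comm, secIdx, Finset.sum_sigma]
    congr 1
    refine Finset.sum_congr rfl fun u hu => Finset.sum_congr rfl fun a ha => ?_
    replace hu : ∃ k, orderOf u = p ^ k := by simpa using hu
    obtain ⟨ha, haB⟩ := Finset.mem_filter.1 ha
    rw [← Finset.mul_sum, gwgt_one hM hmax haB, map_one, mul_one]
    obtain ⟨V, b⟩ := a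
    obtain rfl : V = Subgroup.zpowers u := (mem_pairsAt.1 ha).1
    have := Fintype.ofFinite (Subgroup.centralizer (Subgroup.zpowers u : Set G))
    have h2 := SecondMain.sum_blockPart_sq hM hu
      (fun g => SecondMain.mem_centralizer_zpowers_iff) hB (b := b)
      (SecondMain.induced_of_brauerPair hM hu haB)
    rw [finsum_mem_eq_toFinset_sum, Finset.sum_subtype B.toFinset (p := (· ∈ B))
      fun x => Set.mem_toFinset] at h2
    rw [mul_left_comm]
    congr 1
    rw [← h2]
    refine Finset.sum_congr rfl fun χ _ => ?_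
    rw [sum_regSet u]
    simp only [piece_eq_blockPart _ (irr_class (χ : IrrCharacter G))]
  rw [key, Watanabe.pairs_sum hM hmax hab (fun u a => gwgt p M P e φ u a * (blockRank p a.2 : ℂ))
    (fun g u a ha => by simp only [gwgt_conj hM hst g u a ha, Watanabe.rank_conjIdx]),
    ← mul_assoc, inv_mul_cancel₀ (Nat.cast_ne_zero.2 Nat.card_pos.ne'), one_mul]
  exact Finset.sum_congr rfl fun v _ => by rw [hw, Watanabe.lrank_below hM hPe]

/-- A row vanishes only if the pieces vanish where `φ` does not. -/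
theorem row_ne_zero [Fintype B] (hM : IsPModular p M) (hmax : IsMaximalBrauerPair p M B P e)
    (hst : IsStable p M P e φ) {v : G} (hv : v ∈ P) (hφv : φ v ≠ 0) (χ : B)
    (hd :
      ∃ s ∈ regSet p v, piece (Watanabe.below hM hmax.1.1 ⟨v, hv⟩)
        ((χ : IrrCharacter G) : G → ℂ) (v * s) ≠ 0) :
    ∃ ψ : B, mat p M B P e φ χ ψ ≠ 0 := by
  by_contra hno
  push Not at hno
  obtain ⟨s, hs, hne⟩ := hd
  obtain ⟨hc, hr⟩ := mem_regSet.1 hs
  obtain ⟨ha, haB⟩ := Watanabe.below_mem hM hmax ⟨v, hv⟩
  have hu := Watanabe.exists_order hmax ⟨v, hv⟩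
  have h := piece_gstar hM hmax hst (irr_class (χ : IrrCharacter G)) hu hr hc ha haB
  rw [gstar_eq_sum hM hmax hst χ] at h
  simp only [hno, zero_smul, Finset.sum_const_zero] at h
  rw [piece_def] at h
  simp only [Pi.zero_apply, mul_zero, Finset.sum_const_zero] at h
  rw [gwgt_eq hM hst (u := v) (x := 1) rfl (Watanabe.below_isPBlock hM hmax.1.1 ⟨v, hv⟩)
    (by rw [conjIdx_one hM (Watanabe.below_isPBlock hM hmax.1.1 ⟨v, hv⟩)]
        exact Watanabe.below_le hM hmax.1.1 ⟨v, hv⟩), one_mul, inv_one, mul_one] at h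
  exact (mul_ne_zero hφv hne) h.symm

end Cfsg.Agent.StarMat
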