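import Cfsg.Agent.Lib.Star.Free

/-!
# A group of order nine acting faithfully on an elementary group of order sixteen

`exists_decomposition`: the acted-on group is `F × M` with both factors stable of order four, some
elements fixing one factor are transitive on the non-identity elements of the other, and an element
fixing a non-identity element of a factor fixes that factor.
-/

set_option autoImplicit false
set_option linter.unusedSectionVars false

namespace Cfsg.Agent.NineSixteen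

open Cfsg

variable {G : Type*} [Group G] [Finite G] {P T : Subgroup G}

/-- Conjugations by two elements of `T` commute on `P`. -/
theorem conj_comm (hTN : T ≤ Subgroup.normalizer (P : Set G))
    (he : (Subgroup.centralizer (P : Set G)).relIndex T = 9) {s t : G} (hs : s ∈ T) (ht : t ∈ T)
    {v : G} (hv : v ∈ P) : s * (t * v * t⁻¹) * s⁻¹ = t * (s * v * s⁻¹) * t⁻¹ := by
  have : Fact (Nat.Prime 3) := ⟨Nat.prime_three⟩
  have hn : ((Subgroup.centralizer (P : Set G)).subgroupOf T).Normal :=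
    Subgroup.normal_subgroupOf_of_le_normalizer fun g hg =>
      BrauerPairs.mem_normalizer_centralizer (hTN hg)
  have hcard : Nat.card (T ⧸ (Subgroup.centralizer (P : Set G)).subgroupOf T) = 3 ^ 2 := by
    rw [← Subgroup.index_eq_card]
    exact he
  have hcomm := IsPGroup.commutative_of_card_eq_prime_sq hcard
    (QuotientGroup.mk' _ ⟨s, hs⟩) (QuotientGroup.mk' _ ⟨t, ht⟩)
  rw [← map_mul, ← map_mul, QuotientGroup.mk'_eq_mk'] at hcomm
  obtain ⟨c, hc, hcc⟩ := hcomm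
  have hcv := Subgroup.mem_centralizer_iff.1 (show (c : G) ∈ Subgroup.centralizer (P : Set G) from hc) v hv
  have e1 : t * s = s * t * (c : G) := by
    have := congrArg Subtype.val hcc
    simpa using this.symm
  calc s * (t * v * t⁻¹) * s⁻¹ = s * t * v * (s * t)⁻¹ := by group
    _ = s * t * ((c : G) * v * (c : G)⁻¹) * (s * t)⁻¹ := by rw [← hcv, mul_inv_cancel_right]
    _ = t * s * v * (t * s)⁻¹ := by rw [e1]; group
    _ = t * (s * v * s⁻¹) * t⁻¹ := by group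

theorem pow_nine_mem (hTN : T ≤ Subgroup.normalizer (P : Set G))
    (he : (Subgroup.centralizer (P : Set G)).relIndex T = 9) {t : G} (ht : t ∈ T) :
    t ^ 9 ∈ Subgroup.centralizer (P : Set G) := by
  have hn : ((Subgroup.centralizer (P : Set G)).subgroupOf T).Normal :=
    Subgroup.normal_subgroupOf_of_le_normalizer fun g hg =>
      BrauerPairs.mem_normalizer_centralizer (hTN hg)
  have h := Subgroup.pow_index_mem ((Subgroup.centralizer (P : Set G)).subgroupOf T) (⟨t, ht⟩ : T)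
  rw [show ((Subgroup.centralizer (P : Set G)).subgroupOf T).index = 9 from he] at h
  exact h

/-- Some element outside `C(P)`, with cube in `C(P)`, fixes a non-identity element. -/
theorem exists_fixing (hP : Nat.card P = 16) (hTN : T ≤ Subgroup.normalizer (P : Set G))
    (he : (Subgroup.centralizer (P : Set G)).relIndex T = 9) :
    ∃ t ∈ T, t ∉ Subgroup.centralizer (P : Set G) ∧ t ^ 3 ∈ Subgroup.centralizer (P : Set G) ∧
      ∃ v ∈ P, v ≠ 1 ∧ t * v * t⁻¹ = v := by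
  obtain ⟨t, ht, htC, v, hv, hv1, hfix⟩ : ∃ t ∈ T, t ∉ Subgroup.centralizer (P : Set G) ∧
      ∃ v ∈ P, v ≠ 1 ∧ t * v * t⁻¹ = v := by
    by_contra hcon
    push Not at hcon
    have hn : ((Subgroup.centralizer (P : Set G)).subgroupOf T).Normal :=
      Subgroup.normal_subgroupOf_of_le_normalizer fun g hg =>
        BrauerPairs.mem_normalizer_centralizer (hTN hg)
    have hmem : ∀ (t : T) (v : G), v ∈ P → (t : G) * v * (t : G)⁻¹ ∈ P := fun t v hv =>
      (Subgroup.mem_normalizer_iff.1 (hTN t.2) v).1 hv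
    let : MulAction T {v : G // v ∈ P ∧ v ≠ 1} :=
      { smul := fun t v => ⟨(t : G) * v * (t : G)⁻¹, hmem t v v.2.1, fun h => v.2.2 (conj_eq_one_iff.1 h)⟩
        one_smul := fun v => Subtype.ext (by show ((1 : T) : G) * _ * _ = _; simp)
        mul_smul := fun s t v => Subtype.ext (by
          show ((s * t : T) : G) * _ * _ = (s : G) * ((t : G) * _ * _) * _
          simp [mul_assoc]) }
    have hdvd := Star.dvd_card_of_stab (X := {v : G // v ∈ P ∧ v ≠ 1})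
      (QuotientGroup.mk' ((Subgroup.centralizer (P : Set G)).subgroupOf T))
      (QuotientGroup.mk'_surjective _) fun t v htv => (QuotientGroup.eq_one_iff t).2 (by
        by_contra htC
        exact hcon t t.2 htC v v.2.1 v.2.2 (congrArg Subtype.val htv))
    rw [← Subgroup.index_eq_card] at hdvd
    rw [show ((Subgroup.centralizer (P : Set G)).subgroupOf T).index = 9 from he] at hdvd
    have hX : Nat.card {v : G // v ∈ P ∧ v ≠ 1} = 15 := by
      have h := Set.ncard_diff_singleton_of_mem (show (1 : G) ∈ (P : Set G) from P.one_mem)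
      rw [← Nat.card_coe_set_eq (P : Set G), show Nat.card (P : Set G) = 16 from hP] at h
      rw [← Nat.card_coe_set_eq] at h
      exact h
    rw [hX] at hdvd
    norm_num at hdvd
  by_cases h3 : t ^ 3 ∈ Subgroup.centralizer (P : Set G)
  · exact ⟨t, ht, htC, h3, v, hv, hv1, hfix⟩
  · refine ⟨t ^ 3, T.pow_mem ht 3, h3, by rw [← pow_mul]; exact pow_nine_mem hTN he ht, v, hv, hv1, ?_⟩
    calc t ^ 3 * v * (t ^ 3)⁻¹ = t * (t * (t * v * t⁻¹) * t⁻¹) * t⁻¹ := by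
          simp [pow_succ, mul_assoc]
      _ = v := by rw [hfix, hfix, hfix]

/-- A permutation of three-power order of a set of four with one fixed point. -/
theorem exists_transitive {F : Subgroup G} (hF : Nat.card F = 4) {t : G}
    (hnorm : ∀ x ∈ F, t * x * t⁻¹ ∈ F) (hfree : ∀ x ∈ F, t * x * t⁻¹ = x → x = 1)
    (hfree2 : ∀ x ∈ F, t * (t * x * t⁻¹) * t⁻¹ = x → x = 1)
    {x y : G} (hx : x ∈ F) (hx1 : x ≠ 1) (hy : y ∈ F) (hy1 : y ≠ 1) :
    y = x ∨ y = t * x * t⁻¹ ∨ y = t * (t * x * t⁻¹) * t⁻¹ := by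
  classical
  have := Fintype.ofFinite F
  by_contra hcon
  push Not at hcon
  obtain ⟨h1, h2, h3⟩ := hcon
  have a1 : t * x * t⁻¹ ≠ 1 := fun h => hx1 (conj_eq_one_iff.1 h)
  have a2 : t * (t * x * t⁻¹) * t⁻¹ ≠ 1 := fun h => a1 (conj_eq_one_iff.1 h)
  let S : Finset F := {1, ⟨x, hx⟩, ⟨_, hnorm x hx⟩, ⟨_, hnorm _ (hnorm x hx)⟩, ⟨y, hy⟩}
  have hS : S.card = 5 := by
    have n1 : t * x * t⁻¹ ≠ x := fun h => hx1 (hfree x hx h)
    have n2 : t * (t * x * t⁻¹) * t⁻¹ ≠ x := fun h => hx1 (hfree2 x hx h)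
    have n3 : t * (t * x * t⁻¹) * t⁻¹ ≠ t * x * t⁻¹ := fun h => a1 (hfree _ (hnorm x hx) h)
    simp only [S]
    rw [Finset.card_insert_of_notMem, Finset.card_insert_of_notMem, Finset.card_insert_of_notMem,
      Finset.card_insert_of_notMem, Finset.card_singleton] <;>
      simp only [Finset.mem_insert, Finset.mem_singleton, Subtype.ext_iff, Subgroup.coe_one, not_or]
    · exact Ne.symm h3
    · exact ⟨Ne.symm n3, Ne.symm h2⟩
    · exact ⟨Ne.symm n1, Ne.symm n2, Ne.symm h1⟩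
    · exact ⟨Ne.symm hx1, Ne.symm a1, Ne.symm a2, Ne.symm hy1⟩
  have := Finset.card_le_univ S
  rw [hS, ← Nat.card_eq_fintype_card, hF] at this
  omega

theorem exists_decomposition (hP : Nat.card P = 16) (hexp : ∀ x ∈ P, x * x = 1)
    (hTN : T ≤ Subgroup.normalizer (P : Set G))
    (he : (Subgroup.centralizer (P : Set G)).relIndex T = 9) :
    ∃ F N : Subgroup G, F ≤ P ∧ N ≤ P ∧ Nat.card F = 4 ∧ Nat.card N = 4 ∧
      (∀ x ∈ F, x ∈ N → x = 1) ∧ (∀ v ∈ P, ∃ f ∈ F, ∃ n ∈ N, v = f * n) ∧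
      (∀ t ∈ T, (∀ x ∈ F, t * x * t⁻¹ ∈ F) ∧ ∀ x ∈ N, t * x * t⁻¹ ∈ N) ∧
      (∀ x ∈ F, x ≠ 1 → ∀ y ∈ F, y ≠ 1 →
        ∃ t ∈ T, t * x * t⁻¹ = y ∧ ∀ n ∈ N, t * n * t⁻¹ = n) ∧
      (∀ x ∈ N, x ≠ 1 → ∀ y ∈ N, y ≠ 1 →
        ∃ t ∈ T, t * x * t⁻¹ = y ∧ ∀ f ∈ F, t * f * t⁻¹ = f) ∧
      (∀ t ∈ T, ∀ x ∈ F, x ≠ 1 → t * x * t⁻¹ = x → ∀ y ∈ F, t * y * t⁻¹ = y) ∧
      (∀ t ∈ T, ∀ x ∈ N, x ≠ 1 → t * x * t⁻¹ = x → ∀ y ∈ N, t * y * t⁻¹ = y) := by
  classical
  have : Fact (Nat.Prime 3) := ⟨Nat.prime_three⟩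
  have hab : ∀ x ∈ P, ∀ y ∈ P, x * y = y * x := fun x hx y hy => by
    have h := hexp (x * y) (mul_mem hx hy)
    calc x * y = x * (x * y * (x * y)) * y := by rw [h, mul_one]
      _ = (x * x) * y * x * (y * y) := by group
      _ = y * x := by rw [hexp x hx, hexp y hy, one_mul, mul_one]
  have hinv : ∀ x ∈ P, x⁻¹ = x := fun x hx => inv_eq_of_mul_eq_one_right (hexp x hx)
  have hconj : ∀ t ∈ T, ∀ x ∈ P, t * x * t⁻¹ ∈ P := fun t ht x hx =>
    (Subgroup.mem_normalizer_iff.1 (hTN ht) x).1 hx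
  obtain ⟨t₁, ht₁, ht₁C, ht₁3, v₀, hv₀, hv₀1, hv₀fix⟩ := exists_fixing hP hTN he
  have hc3 : ∀ x ∈ P, t₁ * (t₁ * (t₁ * x * t₁⁻¹) * t₁⁻¹) * t₁⁻¹ = x := fun x hx => by
    have h := Subgroup.mem_centralizer_iff.1 ht₁3 x hx
    calc _ = t₁ ^ 3 * x * (t₁ ^ 3)⁻¹ := by simp [pow_succ, mul_assoc]
      _ = x := by rw [← h, mul_inv_cancel_right]
  -- the fixed factor and its complement
  let F : Subgroup G := P ⊓ Subgroup.centralizer {t₁}
  have hFmem : ∀ x, x ∈ F ↔ x ∈ P ∧ t₁ * x * t₁⁻¹ = x := fun x => by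
    rw [Subgroup.mem_inf, Subgroup.mem_centralizer_singleton_iff, mul_inv_eq_iff_eq_mul, eq_comm]
  let d : P →* G :=
    { toFun := fun x => (x : G) * (t₁ * x * t₁⁻¹)
      map_one' := by simp
      map_mul' := fun x y => by
        show (x : G) * y * (t₁ * ((x : G) * y) * t₁⁻¹) = _
        have h := hab y y.2 _ (hconj t₁ ht₁ x x.2)
        calc (x : G) * y * (t₁ * ((x : G) * y) * t₁⁻¹)
            = (x : G) * ((y : G) * (t₁ * x * t₁⁻¹)) * (t₁ * y * t₁⁻¹) := by group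
          _ = _ := by rw [h]; group }
  let N : Subgroup G := d.range
  have hdval : ∀ x : P, d x = (x : G) * (t₁ * x * t₁⁻¹) := fun _ => rfl
  have hNP : N ≤ P := by
    rintro _ ⟨x, rfl⟩
    exact mul_mem x.2 (hconj t₁ ht₁ x x.2)
  have hFP : F ≤ P := inf_le_left
  have hker : d.ker = F.subgroupOf P := by
    ext x
    rw [MonoidHom.mem_ker, Subgroup.mem_subgroupOf, hFmem, hdval, mul_eq_one_iff_eq_inv,
      hinv _ (hconj t₁ ht₁ x x.2)]
    exact ⟨fun h => ⟨x.2, h.symm⟩, fun h => h.2.symm⟩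
  have hmul : Nat.card F * Nat.card N = 16 := by
    rw [← hP, Subgroup.card_eq_card_quotient_mul_card_subgroup d.ker, mul_comm,
      Nat.card_congr (QuotientGroup.quotientKerEquivRange d).toEquiv, hker,
      Nat.card_congr (Subgroup.subgroupOfEquivOfLe hFP).toEquiv]
  have hdisj : ∀ x ∈ F, x ∈ N → x = 1 := by
    rintro _ hxF ⟨x, rfl⟩
    obtain ⟨-, h⟩ := (hFmem _).1 hxF
    rw [hdval] at h ⊢
    have h2 : t₁ * (t₁ * (x : G) * t₁⁻¹) * t₁⁻¹ = x := by
      have e1 : t₁ * x * t₁⁻¹ * (t₁ * (t₁ * (x : G) * t₁⁻¹) * t₁⁻¹) = t₁ * x * t₁⁻¹ * x := by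
        rw [hab _ (hconj t₁ ht₁ x x.2) _ x.2]
        calc _ = t₁ * ((x : G) * (t₁ * x * t₁⁻¹)) * t₁⁻¹ := by group
          _ = _ := h
      exact mul_left_cancel e1
    have h3 := hc3 x x.2
    rw [h2] at h3
    rw [h3]
    exact hexp x x.2
  have hstable : ∀ t ∈ T, (∀ x ∈ F, t * x * t⁻¹ ∈ F) ∧ ∀ x ∈ N, t * x * t⁻¹ ∈ N := by
    intro t ht
    refine ⟨fun x hx => ?_, ?_⟩
    · obtain ⟨h1, h2⟩ := (hFmem x).1 hx
      exact (hFmem _).2 ⟨hconj t ht x h1, by rw [conj_comm hTN he ht₁ ht h1, h2]⟩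
    · rintro _ ⟨x, rfl⟩
      refine ⟨⟨_, hconj t ht x x.2⟩, ?_⟩
      rw [hdval, hdval, conj_comm hTN he ht₁ ht x.2]
      group
  -- the orders
  have hfreeN : ∀ x ∈ N, t₁ * x * t₁⁻¹ = x → x = 1 := fun x hx h =>
    hdisj x ((hFmem x).2 ⟨hNP hx, h⟩) hx
  have hF4 : Nat.card F = 4 ∧ Nat.card N = 4 := by
    have hF1 : 1 < Nat.card F := F.one_lt_card_iff_ne_bot.2 fun h => hv₀1 (by
      have : v₀ ∈ F := (hFmem v₀).2 ⟨hv₀, hv₀fix⟩
      rwa [h, Subgroup.mem_bot] at this)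
    have hN1 : 1 < Nat.card N := N.one_lt_card_iff_ne_bot.2 fun h => ht₁C (by
      rw [Subgroup.mem_centralizer_iff]
      intro x hx
      have : d ⟨x, hx⟩ ∈ N := ⟨_, rfl⟩
      rw [h, Subgroup.mem_bot, hdval, mul_eq_one_iff_eq_inv, hinv _ (hconj t₁ ht₁ x hx)] at this
      exact (mul_inv_eq_iff_eq_mul.1 this.symm).symm)
    have := Fintype.ofFinite N
    let σ : Function.End N := fun x => ⟨t₁ * x * t₁⁻¹, (hstable t₁ ht₁).2 x x.2⟩
    have hσ : σ ^ 3 ^ 1 = 1 := funext fun x => Subtype.ext (hc3 x (hNP x.2))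
    have hmod := Equiv.Perm.card_fixedPoints_modEq (f := σ) (p := 3) (n := 1) hσ
    have hone : Fintype.card (Function.fixedPoints σ) = 1 := by
      rw [Fintype.card_eq_one_iff]
      refine ⟨⟨1, Subtype.ext (show t₁ * ((1 : N) : G) * t₁⁻¹ = ((1 : N) : G) by simp)⟩,
        fun x => Subtype.ext (Subtype.ext ?_)⟩
      exact hfreeN _ x.1.2 (congrArg Subtype.val x.2)
    rw [hone, ← Nat.card_eq_fintype_card] at hmod
    have hdvd : Nat.card N ∣ 2 ^ 4 := ⟨Nat.card F, by rw [mul_comm, hmul]; norm_num⟩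
    obtain ⟨j, hj, hNj⟩ := (Nat.dvd_prime_pow Nat.prime_two).1 hdvd
    rw [hNj] at hmul hN1 hmod ⊢
    interval_cases j
    all_goals (revert hmod hmul hN1; norm_num [Nat.ModEq, -Subgroup.card_eq_one])
    all_goals omega
  have hfree2N : ∀ x ∈ N, t₁ * (t₁ * x * t₁⁻¹) * t₁⁻¹ = x → x = 1 := fun x hx h => by
    refine hfreeN x hx ?_
    have h3 := hc3 x (hNP hx)
    rwa [h] at h3
  -- an element fixing the complement
  obtain ⟨n₀, hn₀, hn₀1⟩ : ∃ n ∈ N, n ≠ 1 := N.bot_or_exists_ne_one.resolve_left fun h => by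
    rw [h, Subgroup.card_bot] at hF4; omega
  have hfixN : ∀ t ∈ T, t * n₀ * t⁻¹ = n₀ → ∀ y ∈ N, t * y * t⁻¹ = y := by
    intro t ht h y hy
    by_cases hy1 : y = 1
    · simp [hy1]
    have h1 : t * (t₁ * n₀ * t₁⁻¹) * t⁻¹ = t₁ * n₀ * t₁⁻¹ := by
      rw [conj_comm hTN he ht ht₁ (hNP hn₀), h]
    rcases exists_transitive hF4.2 (fun x hx => (hstable t₁ ht₁).2 x hx) hfreeN hfree2N hn₀ hn₀1 hy
      hy1 with rfl | rfl | rfl
    · exact h
    · exact h1
    · rw [conj_comm hTN he ht ht₁ (hconj t₁ ht₁ n₀ (hNP hn₀)), h1]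
  obtain ⟨t₂, ht₂, ht₂C, ht₂N⟩ : ∃ t ∈ T, t ∉ Subgroup.centralizer (P : Set G) ∧
      ∀ n ∈ N, t * n * t⁻¹ = n := by
    by_contra hcon
    push Not at hcon
    have key : ∀ t ∈ T, ∃ j : Fin 3, (t₁ ^ (j : ℕ))⁻¹ * t ∈ Subgroup.centralizer (P : Set G) := by
      intro t ht
      obtain ⟨j, hj⟩ : ∃ j : Fin 3, t * n₀ * t⁻¹ = t₁ ^ (j : ℕ) * n₀ * (t₁ ^ (j : ℕ))⁻¹ := by
        rcases exists_transitive hF4.2 (fun x hx => (hstable t₁ ht₁).2 x hx) hfreeN hfree2N hn₀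
          hn₀1 ((hstable t ht).2 n₀ hn₀) (fun h => hn₀1 (conj_eq_one_iff.1 h)) with h | h | h
        · exact ⟨0, by simpa using h⟩
        · exact ⟨1, by simpa using h⟩
        · exact ⟨2, by rw [h, show ((2 : Fin 3) : ℕ) = 2 from rfl]; simp [pow_succ, mul_assoc]⟩
      refine ⟨j, ?_⟩
      by_contra hnot
      have hmem : (t₁ ^ (j : ℕ))⁻¹ * t ∈ T := mul_mem (inv_mem (T.pow_mem ht₁ _)) ht
      obtain ⟨n, hn, hne⟩ := hcon _ hmem hnot
      refine hne (hfixN _ hmem ?_ n hn)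
      calc (t₁ ^ (j : ℕ))⁻¹ * t * n₀ * ((t₁ ^ (j : ℕ))⁻¹ * t)⁻¹
          = (t₁ ^ (j : ℕ))⁻¹ * (t * n₀ * t⁻¹) * t₁ ^ (j : ℕ) := by group
        _ = n₀ := by rw [hj]; group
    have hsurj : Function.Surjective fun j : Fin 3 =>
        (QuotientGroup.mk ⟨t₁ ^ (j : ℕ), T.pow_mem ht₁ _⟩ :
          T ⧸ (Subgroup.centralizer (P : Set G)).subgroupOf T) := by
      intro q
      obtain ⟨t, rfl⟩ := QuotientGroup.mk_surjective q
      obtain ⟨j, hj⟩ := key t t.2
      exact ⟨j, QuotientGroup.eq.2 hj⟩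
    have hle := Nat.card_le_card_of_surjective _ hsurj
    rw [← Subgroup.index_eq_card, Nat.card_eq_fintype_card, Fintype.card_fin] at hle
    rw [show ((Subgroup.centralizer (P : Set G)).subgroupOf T).index = 9 from he] at hle
    omega
  have hdec : ∀ v ∈ P, ∃ f ∈ F, ∃ n ∈ N, v = f * n := by
    intro v hv
    let g : F × N → P := fun q => ⟨(q.1 : G) * q.2, mul_mem (hFP q.1.2) (hNP q.2.2)⟩
    have hginj : Function.Injective g := fun q r h => by
      have h' : (q.1 : G) * q.2 = r.1 * r.2 := congrArg Subtype.val h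
      have e1 : (r.1 : G)⁻¹ * q.1 = r.2 * (q.2 : G)⁻¹ := by
        calc (r.1 : G)⁻¹ * q.1 = (r.1 : G)⁻¹ * ((q.1 : G) * q.2) * (q.2 : G)⁻¹ := by group
          _ = _ := by rw [h']; group
      have h1 := hdisj _ (mul_mem (inv_mem r.1.2) q.1.2) (e1 ▸ mul_mem r.2.2 (inv_mem q.2.2))
      have h2 : (r.1 : G) = q.1 := inv_mul_eq_one.1 h1
      rw [h2] at h'
      exact Prod.ext (Subtype.ext h2.symm) (Subtype.ext (mul_left_cancel h'))
    have hbij : Function.Bijective g :=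
      (Nat.bijective_iff_injective_and_card g).2 ⟨hginj, by
        rw [Nat.card_prod, hF4.1, hF4.2, hP]⟩
    obtain ⟨⟨f, n⟩, hfn⟩ := hbij.2 ⟨v, hv⟩
    exact ⟨f, f.2, n, n.2, (congrArg Subtype.val hfn).symm⟩
  -- freeness on the fixed factor
  have hc9 : ∀ x ∈ P, ((fun y => t₂ * y * t₂⁻¹)^[9]) x = x := by
    intro x hx
    have hit : ∀ n : ℕ, ((fun y => t₂ * y * t₂⁻¹)^[n]) x = t₂ ^ n * x * (t₂ ^ n)⁻¹ := by
      intro n
      induction n with
      | zero => simp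
      | succ n ih => rw [Function.iterate_succ_apply', ih, pow_succ']; group
    rw [hit, ← Subgroup.mem_centralizer_iff.1 (pow_nine_mem hTN he ht₂) x hx, mul_inv_cancel_right]
  have hfreeF : ∀ x ∈ F, t₂ * x * t₂⁻¹ = x → x = 1 := by
    intro x hx hfix
    by_contra hx1
    have := Fintype.ofFinite F
    let σ : Function.End F := fun y => ⟨t₂ * y * t₂⁻¹, (hstable t₂ ht₂).1 y y.2⟩
    have hσ : σ ^ 3 ^ 2 = 1 := funext fun y => Subtype.ext (by
      have h : ∀ n : ℕ, (((σ ^ n) y : F) : G) = ((fun z => t₂ * z * t₂⁻¹)^[n]) (y : G) := by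
        intro n
        induction n with
        | zero => rfl
        | succ n ih =>
          rw [Function.iterate_succ_apply', ← ih, pow_succ']
          rfl
      rw [h]
      exact hc9 y (hFP y.2))
    have hmod := Equiv.Perm.card_fixedPoints_modEq (f := σ) (p := 3) (n := 2) hσ
    have h2 : 1 < Fintype.card (Function.fixedPoints σ) := Fintype.one_lt_card_iff.2
      ⟨⟨1, Subtype.ext (show t₂ * ((1 : F) : G) * t₂⁻¹ = ((1 : F) : G) by simp)⟩,
        ⟨⟨x, hx⟩, Subtype.ext hfix⟩, fun h => hx1 (congrArg (fun z => ((z.1 : F) : G)) h).symm⟩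
    have h4 : Fintype.card (Function.fixedPoints σ) ≤ Fintype.card F := Fintype.card_subtype_le _
    rw [← Nat.card_eq_fintype_card, ← Nat.card_eq_fintype_card, hF4.1] at h4
    rw [← Nat.card_eq_fintype_card, ← Nat.card_eq_fintype_card, hF4.1] at hmod
    rw [← Nat.card_eq_fintype_card] at h2
    have hall : Nat.card (Function.fixedPoints σ) = 4 := by
      unfold Nat.ModEq at hmod; omega
    refine ht₂C ?_
    rw [Subgroup.mem_centralizer_iff]
    intro v hv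
    obtain ⟨f, hf, n, hn, rfl⟩ := hdec v hv
    have hf' : t₂ * f * t₂⁻¹ = f := by
      have huniv : (⟨f, hf⟩ : F) ∈ Function.fixedPoints σ := by
        have h : Function.fixedPoints σ = Set.univ :=
          Set.eq_of_subset_of_ncard_le (Set.subset_univ _) (by
            rw [Set.ncard_univ, ← Nat.card_coe_set_eq, hall, hF4.1])
        rw [h]; trivial
      exact congrArg Subtype.val huniv
    calc f * n * t₂ = t₂ * f * t₂⁻¹ * (t₂ * n * t₂⁻¹) * t₂ := by rw [hf', ht₂N n hn]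
      _ = t₂ * (f * n) := by group
  have hfree2F : ∀ x ∈ F, t₂ * (t₂ * x * t₂⁻¹) * t₂⁻¹ = x → x = 1 := fun x hx h => by
    refine hfreeF x hx ?_
    have h9 := hc9 x (hFP hx)
    simp only [Function.iterate_succ_apply', Function.iterate_zero_apply] at h9
    rwa [h, h, h, h] at h9
  refine ⟨F, N, hFP, hNP, hF4.1, hF4.2, hdisj, hdec, hstable, ?_, ?_, ?_, ?_⟩
  · intro x hx hx1 y hy hy1
    rcases exists_transitive hF4.1 (fun z hz => (hstable t₂ ht₂).1 z hz) hfreeF hfree2F hx hx1 hy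
      hy1 with rfl | rfl | rfl
    · exact ⟨1, T.one_mem, by simp, fun n _ => by simp⟩
    · exact ⟨t₂, ht₂, rfl, ht₂N⟩
    · refine ⟨t₂ * t₂, mul_mem ht₂ ht₂, by group, fun n hn => ?_⟩
      calc t₂ * t₂ * n * (t₂ * t₂)⁻¹ = t₂ * (t₂ * n * t₂⁻¹) * t₂⁻¹ := by group
        _ = n := by rw [ht₂N n hn, ht₂N n hn]
  · intro x hx hx1 y hy hy1
    have hf : ∀ f ∈ F, t₁ * f * t₁⁻¹ = f := fun f hf => ((hFmem f).1 hf).2
    rcases exists_transitive hF4.2 (fun z hz => (hstable t₁ ht₁).2 z hz) hfreeN hfree2N hx hx1 hy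
      hy1 with rfl | rfl | rfl
    · exact ⟨1, T.one_mem, by simp, fun n _ => by simp⟩
    · exact ⟨t₁, ht₁, rfl, hf⟩
    · refine ⟨t₁ * t₁, mul_mem ht₁ ht₁, by group, fun n hn => ?_⟩
      calc t₁ * t₁ * n * (t₁ * t₁)⁻¹ = t₁ * (t₁ * n * t₁⁻¹) * t₁⁻¹ := by group
        _ = n := by rw [hf n hn, hf n hn]
  · intro t ht x hx hx1 hfix y hy
    by_cases hy1 : y = 1
    · simp [hy1]
    have h1 : t * (t₂ * x * t₂⁻¹) * t⁻¹ = t₂ * x * t₂⁻¹ := by
      rw [conj_comm hTN he ht ht₂ (hFP hx), hfix]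
    rcases exists_transitive hF4.1 (fun z hz => (hstable t₂ ht₂).1 z hz) hfreeF hfree2F hx hx1 hy
      hy1 with rfl | rfl | rfl
    · exact hfix
    · exact h1
    · rw [conj_comm hTN he ht ht₂ (hconj t₂ ht₂ x (hFP hx)), h1]
  · intro t ht x hx hx1 hfix y hy
    by_cases hy1 : y = 1
    · simp [hy1]
    have h1 : t * (t₁ * x * t₁⁻¹) * t⁻¹ = t₁ * x * t₁⁻¹ := by
      rw [conj_comm hTN he ht ht₁ (hNP hx), hfix]
    rcases exists_transitive hF4.2 (fun z hz => (hstable t₁ ht₁).2 z hz) hfreeN hfree2N hx hx1 hy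
      hy1 with rfl | rfl | rfl
    · exact hfix
    · exact h1
    · rw [conj_comm hTN he ht ht₁ (hconj t₁ ht₁ x (hNP hx)), h1]

end Cfsg.Agent.NineSixteen
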