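import Cfsg.Agent.EqLemmas

/-!
# Integral matrices attached to contributions

* `exists_vector`: an integral symmetric `W` with `W² = 16 W`, trace `16` and non-zero diagonal is
  `v vᵀ` with `|vᵢ| ≤ 2`, as soon as its size is at least `9`;
* `card_eq_sixteen`: the size is then `16` in the presence of two companions `X`, `Y`.
-/

set_option autoImplicit false
set_option linter.unusedSectionVars false

namespace Cfsg.Agent.StarMat

open Matrix

variable {ι : Type*} [Fintype ι] [DecidableEq ι]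

theorem row_sq {W : Matrix ι ι ℤ} {a : ℤ} (hsym : ∀ i j, W i j = W j i) (hW : W * W = a • W)
    (i : ι) : ∑ j, W i j ^ 2 = a * W i i := by
  have h := congrFun (congrFun hW i) i
  rw [Matrix.mul_apply, Matrix.smul_apply, smul_eq_mul] at h
  rw [← h]
  exact Finset.sum_congr rfl fun j _ => by rw [sq, hsym j i]

theorem diag_pos {W : Matrix ι ι ℤ} {a : ℤ} (ha : 0 < a) (hsym : ∀ i j, W i j = W j i)
    (hW : W * W = a • W) {i : ι} (h0 : W i i ≠ 0) : 0 < W i i := by
  have h := row_sq hsym hW i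
  have h2 : 0 ≤ a * W i i := h ▸ Finset.sum_nonneg fun j _ => sq_nonneg _
  exact lt_of_le_of_ne (nonneg_of_mul_nonneg_right h2 ha) (Ne.symm h0)

/-- An idempotent of trace one has rank one. -/
theorem rank_one {W : Matrix ι ι ℤ} (hW : W * W = (16 : ℤ) • W) (htr : W.trace = 16) (i j l : ι) :
    W i j * W l l = W i l * W l j := by
  let E : Matrix ι ι ℚ := fun a b => (W a b : ℚ) / 16
  have hE : E * E = E := by
    ext a b
    have h := congrFun (congrFun hW a) b
    rw [Matrix.mul_apply, Matrix.smul_apply, smul_eq_mul] at h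
    have h' : (∑ c, (W a c : ℚ) * W c b) = 16 * (W a b : ℚ) := by exact_mod_cast h
    rw [Matrix.mul_apply]
    simp only [E]
    rw [Finset.sum_congr rfl fun c _ => show (W a c : ℚ) / 16 * ((W c b : ℚ) / 16) =
      (W a c : ℚ) * W c b / 256 by ring, ← Finset.sum_div, h']
    ring
  have hproj : LinearMap.IsProj (LinearMap.range (Matrix.toLin' E)) (Matrix.toLin' E) :=
    ⟨fun x => ⟨x, rfl⟩, fun x hx => by
      obtain ⟨y, rfl⟩ := hx
      rw [← LinearMap.comp_apply, ← Matrix.toLin'_mul, hE]⟩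
  have h1 := hproj.trace
  rw [Matrix.trace_toLin'_eq] at h1
  have h2 : E.trace = 1 := by
    have h' : (∑ a, (W a a : ℚ)) = 16 := by exact_mod_cast htr
    show ∑ a, (W a a : ℚ) / 16 = 1
    rw [← Finset.sum_div, h']
    norm_num
  rw [h2] at h1
  obtain ⟨v, -, hv⟩ := finrank_eq_one_iff'.1
    (show Module.finrank ℚ (LinearMap.range (Matrix.toLin' E)) = 1 by exact_mod_cast h1.symm)
  have hcol : ∀ b, ∃ c : ℚ, ∀ a, E a b = c * (v : ι → ℚ) a := fun b => by
    obtain ⟨c, hc⟩ := hv ⟨Matrix.toLin' E (Pi.single b 1), ⟨_, rfl⟩⟩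
    refine ⟨c, fun a => ?_⟩
    have h := congrFun (congrArg Subtype.val hc) a
    simp at h
    exact h.symm
  choose c hc using hcol
  have h : (W i j : ℚ) * W l l = (W i l : ℚ) * W l j := by
    have e : ∀ a b, (W a b : ℚ) = 16 * E a b := fun a b => by simp only [E]; ring
    rw [e, e, e i l, e l j, hc j i, hc l l, hc l i, hc j l]
    ring
  exact_mod_cast h

theorem exists_vector {W : Matrix ι ι ℤ} (hsym : ∀ i j, W i j = W j i) (hW : W * W = (16 : ℤ) • W)
    (htr : W.trace = 16) (hd : ∀ i, W i i ≠ 0) (hk : 9 ≤ Fintype.card ι) :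
    ∃ v : ι → ℤ, (∀ i j, W i j = v i * v j) ∧ (∀ i, v i ^ 2 = 1 ∨ v i ^ 2 = 4) ∧
      ∑ i, v i ^ 2 = 16 := by
  have hpos : ∀ i, 0 < W i i := fun i => diag_pos (by norm_num) hsym hW (hd i)
  obtain ⟨j, hj⟩ : ∃ j, W j j = 1 := by
    by_contra hcon
    push Not at hcon
    have h := Finset.sum_le_sum (s := Finset.univ) fun i _ =>
      show (2 : ℤ) ≤ W i i by have := hpos i; have := hcon i; omega
    rw [show ∑ i, W i i = 16 from htr, Finset.sum_const, Finset.card_univ, nsmul_eq_mul] at h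
    have : (9 : ℤ) ≤ Fintype.card ι := by exact_mod_cast hk
    omega
  have hv : ∀ i l, W i l = W i j * W l j := fun i l => by
    have h := rank_one hW htr i l j
    rwa [hj, mul_one, hsym j l] at h
  have hsum : ∑ i, W i j ^ 2 = 16 := by
    rw [← htr]
    exact Finset.sum_congr rfl fun i _ => by rw [Matrix.diag_apply, hv i i, sq]
  refine ⟨fun i => W i j, hv, fun i => ?_, hsum⟩
  have h1 : ∀ l, 1 ≤ W l j ^ 2 := fun l => by
    have := hpos l
    rw [hv l l, ← sq] at this
    omega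
  have h := Finset.sum_le_sum (s := Finset.univ.erase i) fun l _ => h1 l
  rw [Finset.sum_const, Finset.card_erase_of_mem (Finset.mem_univ i), Finset.card_univ,
    nsmul_eq_mul, mul_one, Finset.sum_erase_eq_sub (Finset.mem_univ i), hsum] at h
  have h9 : (8 : ℤ) ≤ ((Fintype.card ι - 1 : ℕ) : ℤ) := by exact_mod_cast (by omega : 8 ≤ Fintype.card ι - 1)
  have hlt : W i j ^ 2 ≤ 8 := by omega
  have hb : -2 ≤ W i j ∧ W i j ≤ 2 := by constructor <;> nlinarith
  obtain ⟨hb1, hb2⟩ := hb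
  have := h1 i
  show W i j ^ 2 = 1 ∨ W i j ^ 2 = 4
  generalize W i j = w at *
  interval_cases w <;> first | (left; norm_num; done) | (right; norm_num; done) | norm_num at this

/-- The row of a character with `v = 2`. -/
theorem row_two {X : Matrix ι ι ℤ} {v : ι → ℤ} (hsym : ∀ i j, X i j = X j i)
    (hX : X * X = (4 : ℤ) • X) (hXv : ∀ i, ∑ j, X i j * v j = 4 * v i)
    (hv : ∀ i, v i = 1 ∨ v i = 2) (hn2 : (Finset.univ.filter fun i => v i = 2).card ≤ 2)
    {y : ι} (hy : v y = 2) (hle : X y y ≤ 2) :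
    X y y = 2 ∧ ((∃ z, z ≠ y ∧ v z = 2 ∧ X y z = 2) ∨
      ((∀ z, z ≠ y → v z = 2 → X y z = 0) ∧ (∀ i, v i = 1 → X y i = 0 ∨ X y i = 1) ∧
        ∑ i ∈ Finset.univ.filter (fun i => v i = 1), X y i = 4)) := by
  have hr := row_sq hsym hX y
  have hd0 : X y y ≠ 0 := fun h0 => by
    rw [h0, mul_zero] at hr
    have h := hXv y
    rw [Finset.sum_eq_zero fun j hj => by
      rw [pow_eq_zero_iff two_ne_zero |>.1
        ((Finset.sum_eq_zero_iff_of_nonneg fun l _ => sq_nonneg (X y l)).1 hr j hj), zero_mul],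
      hy] at h
    norm_num at h
  have hdp := diag_pos (by norm_num) hsym hX hd0
  set S₂ := Finset.univ.filter fun i => v i = 2 with hS₂
  set S₁ := Finset.univ.filter fun i => v i = 1 with hS₁
  have hsplit : ∀ f : ι → ℤ, ∑ i, f i = ∑ i ∈ S₁, f i + (f y + ∑ i ∈ S₂.erase y, f i) := fun f => by
    rw [Finset.add_sum_erase _ _ (by simp [hS₂, hy]),
      ← Finset.sum_filter_add_sum_filter_not Finset.univ (fun i => v i = 1)]
    congr 1
    refine Finset.sum_congr (Finset.filter_congr fun i _ => ?_) fun _ _ => rfl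
    rcases hv i with h | h <;> simp [h]
  rw [hsplit] at hr
  have hw := hXv y
  rw [hsplit, hy, Finset.sum_congr rfl fun i hi => show X y i * v i = X y i by
      rw [(Finset.mem_filter.1 hi).2, mul_one],
    Finset.sum_congr rfl fun i hi => show X y i * v i = 2 * X y i by
      rw [(Finset.mem_filter.1 (Finset.mem_of_mem_erase hi)).2, mul_comm]] at hw
  replace hw : ∑ i ∈ S₁, X y i + (X y y * 2 + ∑ i ∈ S₂.erase y, 2 * X y i) = 4 * 2 := hw
  have hle1 : ∑ i ∈ S₁, X y i ≤ ∑ i ∈ S₁, X y i ^ 2 :=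
    Finset.sum_le_sum fun i _ => Int.le_self_sq _
  have hcard : (S₂.erase y).card ≤ 1 := by
    rw [Finset.card_erase_of_mem (by simp [hS₂, hy])]
    omega
  have : Nonempty ι := ⟨y⟩
  obtain ⟨z, hz⟩ := Finset.card_le_one_iff_subset_singleton.1 hcard
  rcases Finset.subset_singleton_iff.1 hz with he | he
  · rw [he, Finset.sum_empty] at hr hw
    have h2 : X y y = 2 := by
      interval_cases X y y <;> omega
    rw [h2] at hr hw
    refine ⟨h2, Or.inr ⟨fun w hwy hw2 => ?_, fun i hi => ?_, by omega⟩⟩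
    · have : w ∈ S₂.erase y := Finset.mem_erase.2 ⟨hwy, by simp [hS₂, hw2]⟩
      rw [he] at this
      exact absurd this (Finset.notMem_empty w)
    · have heq := (Finset.sum_eq_sum_iff_of_le fun l _ => Int.le_self_sq (X y l)).1
        (show ∑ l ∈ S₁, X y l = ∑ l ∈ S₁, X y l ^ 2 by omega) i (by simp [hS₁, hi])
      rcases mul_eq_zero.1 (show X y i * (X y i - 1) = 0 by linear_combination -heq) with h | h
      · exact Or.inl h
      · exact Or.inr (by omega)
  · rw [he, Finset.sum_singleton] at hr hw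
    have hz2 : v z = 2 ∧ z ≠ y := by
      have : z ∈ S₂.erase y := he ▸ Finset.mem_singleton_self z
      exact ⟨(Finset.mem_filter.1 (Finset.mem_of_mem_erase this)).2, Finset.ne_of_mem_erase this⟩
    have hpar : ∃ t, ∑ i ∈ S₁, X y i ^ 2 - ∑ i ∈ S₁, X y i = 2 * t := by
      rw [← Finset.sum_sub_distrib]
      refine Finset.dvd_sum fun i _ => ?_
      obtain ⟨t, ht⟩ := Int.even_mul_pred_self (X y i)
      exact ⟨t, by rw [← two_mul] at ht; linear_combination ht⟩
    obtain ⟨t, ht⟩ := hpar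
    have h2 : X y y = 2 := by
      by_contra hne
      have h1 : X y y = 1 := by omega
      rw [h1] at hr hw
      nlinarith [sq_nonneg (X y z - 1)]
    rw [h2] at hr hw
    have hxz : X y z = 0 ∨ X y z = 2 := by
      have hb : 0 ≤ X y z ∧ X y z ≤ 2 := by constructor <;> nlinarith
      obtain ⟨hb1, hb2⟩ := hb
      generalize X y z = x at *
      interval_cases x <;> omega
    refine ⟨h2, ?_⟩
    rcases hxz with h0 | h0
    · rw [h0] at hr hw
      refine Or.inr ⟨fun w hwy hw2 => ?_, fun i hi => ?_, by omega⟩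
      · have : w ∈ S₂.erase y := Finset.mem_erase.2 ⟨hwy, by simp [hS₂, hw2]⟩
        rw [he, Finset.mem_singleton] at this
        rw [this, h0]
      · have heq := (Finset.sum_eq_sum_iff_of_le fun l _ => Int.le_self_sq (X y l)).1
          (show ∑ l ∈ S₁, X y l = ∑ l ∈ S₁, X y l ^ 2 by omega) i (by simp [hS₁, hi])
        rcases mul_eq_zero.1 (show X y i * (X y i - 1) = 0 by linear_combination -heq) with h | h
        · exact Or.inl h
        · exact Or.inr (by omega)
    · exact Or.inl ⟨z, hz2.2, hz2.1, h0⟩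

/-- A diagonal entry one excludes being met by a row of type `T`. -/
theorem two_le_of_met {X : Matrix ι ι ℤ} {v : ι → ℤ} (hsym : ∀ i j, X i j = X j i)
    (hX : X * X = (4 : ℤ) • X) (hXv : ∀ i, ∑ j, X i j * v j = 4 * v i)
    (hv : ∀ i, v i = 1 ∨ v i = 2) (hd : ∀ i, 1 ≤ X i i)
    {S : Finset ι} (hS : ∀ i, i ∈ S ↔ v i = 2)
    (hT : ∀ y ∈ S, X y y = 2 ∧ (∀ z ∈ S, z ≠ y → X y z = 0) ∧
      ∀ i, v i = 1 → X y i = 0 ∨ X y i = 1) :
    ∀ i, v i = 1 → 1 + ∑ y ∈ S, X y i ≤ X i i := by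
  intro i hi
  have h01 : ∀ y ∈ S, X y i = 0 ∨ X y i = 1 := fun y hy => (hT y hy).2.2 i hi
  -- two rows of type T do not meet
  have hdisj : ∀ y ∈ S, ∀ z ∈ S, z ≠ y → X y i = 1 → X z i = 0 := by
    intro y hy z hz hzy h1
    refine (h01 z hz).resolve_right fun h1' => ?_
    have h := congrFun (congrFun hX y) z
    rw [Matrix.mul_apply, Matrix.smul_apply, smul_eq_mul, (hT y hy).2.1 z hz hzy, mul_zero] at h
    have hnn : ∀ l ∈ (Finset.univ : Finset ι), 0 ≤ X y l * X l z := by
      intro l _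
      rcases hv l with hl | hl
      · rw [hsym l z]
        rcases (hT y hy).2.2 l hl with a | a <;> rcases (hT z hz).2.2 l hl with b | b <;>
          rw [a, b] <;> norm_num
      · have hlS := (hS l).2 hl
        by_cases hly : l = y
        · subst hly; rw [hsym l z, (hT z hz).2.1 l hy (Ne.symm hzy), mul_zero]
        · rw [(hT y hy).2.1 l hlS hly, zero_mul]
    have h' := (Finset.sum_eq_zero_iff_of_nonneg hnn).1 h i (Finset.mem_univ i)
    rw [h1, hsym i z, h1'] at h'
    norm_num at h'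
  by_cases hmet : ∃ y ∈ S, X y i = 1
  · obtain ⟨y, hy, h1⟩ := hmet
    rw [Finset.sum_eq_single y (fun z hz hzy => hdisj y hy z hz hzy h1) (fun h => absurd hy h), h1]
    by_contra hlt
    have hii : X i i = 1 := by have := hd i; omega
    have hr := row_sq hsym hX i
    have hw := hXv i
    set S₁ := Finset.univ.filter fun l => v l = 1 with hS₁
    have hsplit : ∀ f : ι → ℤ, ∑ l, f l = (f i + ∑ l ∈ S₁.erase i, f l) +
        (f y + ∑ l ∈ S.erase y, f l) := fun f => by
      rw [Finset.add_sum_erase _ _ (by simp [hS₁, hi]), Finset.add_sum_erase _ _ hy,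
        ← Finset.sum_filter_add_sum_filter_not Finset.univ (fun l => v l = 1)]
      congr 1
      refine Finset.sum_congr ?_ fun _ _ => rfl
      ext l
      rcases hv l with h | h <;> simp [hS, h]
    have hzero : ∀ z ∈ S.erase y, X i z = 0 := fun z hz => by
      rw [hsym]
      exact hdisj y hy z (Finset.mem_of_mem_erase hz) (Finset.ne_of_mem_erase hz) h1
    rw [hsplit, Finset.sum_eq_zero (s := S.erase y) fun z hz => by rw [hzero z hz]; norm_num,
      hsym i y, h1, hii] at hr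
    rw [hsplit, Finset.sum_eq_zero (s := S.erase y) fun z hz => by rw [hzero z hz, zero_mul],
      Finset.sum_congr rfl fun l hl => show X i l * v l = X i l by
        rw [(Finset.mem_filter.1 (Finset.mem_of_mem_erase hl)).2, mul_one],
      hsym i y, h1, hii, hi, (hS y).1 hy] at hw
    have hpar : (2 : ℤ) ∣ ∑ l ∈ S₁.erase i, X i l ^ 2 - ∑ l ∈ S₁.erase i, X i l := by
      rw [← Finset.sum_sub_distrib]
      refine Finset.dvd_sum fun l _ => ?_
      obtain ⟨t, ht⟩ := Int.even_mul_pred_self (X i l)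
      exact ⟨t, by rw [← two_mul] at ht; linear_combination ht⟩
    norm_num at hr hw
    replace hw : 1 + ∑ l ∈ S₁.erase i, X i l + 2 = 4 := hw
    omega
  · push Not at hmet
    rw [Finset.sum_eq_zero fun y hy => (h01 y hy).resolve_right (hmet y hy), add_zero]
    exact hd i

/-- The size is sixteen. -/
theorem card_eq_sixteen {W X Y : Matrix ι ι ℤ} (hWs : ∀ i j, W i j = W j i)
    (hW : W * W = (16 : ℤ) • W) (hWt : W.trace = 16) (hWd : ∀ i, W i i ≠ 0)
    (hXs : ∀ i j, X i j = X j i) (hX : X * X = (4 : ℤ) • X) (hXW : X * W = (4 : ℤ) • W)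
    (hXt : X.trace = 16) (hYs : ∀ i j, Y i j = Y j i) (hY : Y * Y = (4 : ℤ) • Y)
    (hYW : Y * W = (4 : ℤ) • W) (hYt : Y.trace = 16) {R : Matrix ι ι ℤ}
    (hRdef : R = (16 : ℤ) • 1 + W - (4 : ℤ) • X - (4 : ℤ) • Y)
    (hR : R * R = (16 : ℤ) • R) (hRd : ∀ i, R i i ≠ 0) (hk : 9 ≤ Fintype.card ι) :
    Fintype.card ι = 16 := by
  obtain ⟨v, hv, hv12, hsum⟩ := exists_vector hWs hW hWt hWd hk
  -- signs
  let s : ι → ℤ := fun i => if 0 < v i then 1 else -1
  have hss : ∀ i, s i * s i = 1 := fun i => by simp only [s]; split_ifs <;> norm_num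
  let a : ι → ℤ := fun i => s i * v i
  have ha : ∀ i, a i = 1 ∨ a i = 2 := by
    intro i
    rcases hv12 i with h | h
    · rcases sq_eq_one_iff.1 h with h | h <;> simp [a, s, h]
    · rcases sq_eq_sq_iff_eq_or_eq_neg.1 (h.trans (show (4 : ℤ) = 2 ^ 2 by norm_num)) with h | h <;>
        simp [a, s, h]
  have hva : ∀ i, v i = s i * a i := fun i => by simp only [a]; rw [← mul_assoc, hss, one_mul]
  let cj : Matrix ι ι ℤ → Matrix ι ι ℤ := fun Z i j => s i * s j * Z i j
  have hmulcj : ∀ (Z : Matrix ι ι ℤ) (c : ℤ), Z * Z = c • Z → cj Z * cj Z = c • cj Z := by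
    intro Z c hZ
    ext i j
    have h := congrFun (congrFun hZ i) j
    rw [Matrix.mul_apply, Matrix.smul_apply, smul_eq_mul] at h
    rw [Matrix.mul_apply, Matrix.smul_apply, smul_eq_mul]
    simp only [cj]
    calc ∑ l, s i * s l * Z i l * (s l * s j * Z l j)
        = ∑ l, s i * s j * (Z i l * Z l j) := Finset.sum_congr rfl fun l _ => by
          linear_combination (s i * s j * Z i l * Z l j) * hss l
      _ = _ := by rw [← Finset.mul_sum, h]; ring
  have hmulv : ∀ Z : Matrix ι ι ℤ, Z * W = (4 : ℤ) • W → ∀ i, ∑ j, cj Z i j * a j = 4 * a i := by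
    intro Z hZ i
    have hv0 : v i ≠ 0 := fun h0 => by rcases hv12 i with h | h <;> rw [h0] at h <;> norm_num at h
    have h := congrFun (congrFun hZ i) i
    rw [Matrix.mul_apply, Matrix.smul_apply, smul_eq_mul] at h
    simp only [hv] at h
    rw [Finset.sum_congr rfl fun j _ => show Z i j * (v j * v i) = Z i j * v j * v i by ring,
      ← Finset.sum_mul, ← mul_assoc] at h
    have h' := mul_right_cancel₀ hv0 h
    simp only [cj, a]
    calc ∑ j, s i * s j * Z i j * (s j * v j) = ∑ j, s i * (Z i j * v j) :=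
          Finset.sum_congr rfl fun j _ => by linear_combination (s i * Z i j * v j) * hss j
      _ = _ := by rw [← Finset.mul_sum, h']; ring
  have hsymcj : ∀ Z : Matrix ι ι ℤ, (∀ i j, Z i j = Z j i) → ∀ i j, cj Z i j = cj Z j i :=
    fun Z hZ i j => by simp only [cj]; rw [hZ i j]; ring
  have hdiag : ∀ (Z : Matrix ι ι ℤ) i, cj Z i i = Z i i := fun Z i => by
    simp only [cj]; rw [hss, one_mul]
  set S₂ := Finset.univ.filter fun i => a i = 2 with hS₂
  have hcount : (Fintype.card ι : ℤ) + 3 * (S₂.card : ℤ) = 16 := by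
    rw [← hsum, Finset.sum_congr rfl fun i _ => show v i ^ 2 = 1 + (if a i = 2 then 3 else 0) by
      rw [hva i, mul_pow, sq (s i), hss, one_mul]
      rcases ha i with h | h <;> simp [h]]
    rw [Finset.sum_add_distrib, Finset.sum_ite, Finset.sum_const_zero, add_zero, Finset.sum_const,
      Finset.sum_const, Finset.card_univ, nsmul_eq_mul, nsmul_eq_mul, mul_one, hS₂]
    ring
  by_contra hne
  have hS2 : S₂.card ≤ 2 := by omega
  obtain ⟨y, hy⟩ : S₂.Nonempty := Finset.card_pos.1 (by omega)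
  have hdpos : ∀ Z : Matrix ι ι ℤ, (∀ i j, Z i j = Z j i) → Z * Z = (4 : ℤ) • Z →
      Z * W = (4 : ℤ) • W → ∀ i, 1 ≤ Z i i := by
    intro Z hZs hZ hZW i
    refine diag_pos (by norm_num) hZs hZ fun h0 => ?_
    have h := congrFun (congrFun hZW i) i
    rw [Matrix.mul_apply, Matrix.smul_apply, smul_eq_mul, Finset.sum_eq_zero fun j hj => ?_] at h
    · exact hWd i (by omega)
    have hr := row_sq hZs hZ i
    rw [h0, mul_zero] at hr
    rw [pow_eq_zero_iff two_ne_zero |>.1
      ((Finset.sum_eq_zero_iff_of_nonneg fun l _ => sq_nonneg (Z i l)).1 hr j hj), zero_mul]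
  have hRs : ∀ i j, R i j = R j i := fun i j => by
    simp only [hRdef, Matrix.sub_apply, Matrix.add_apply, Matrix.smul_apply, Matrix.one_apply,
      hWs i j, hXs i j, hYs i j, eq_comm]
  have hRval : ∀ i j, R i j = (if i = j then 16 else 0) + v i * v j - 4 * X i j - 4 * Y i j :=
    fun i j => by
    simp only [hRdef, Matrix.sub_apply, Matrix.add_apply, Matrix.smul_apply, Matrix.one_apply, hv,
      smul_eq_mul, mul_ite, mul_one, mul_zero]
  -- the diagonal at a two
  have hXY : ∀ z ∈ S₂, X z z + Y z z ≤ 4 := by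
    intro z hz
    have h := diag_pos (by norm_num) hRs hR (hRd z)
    rw [hRval, if_pos rfl, hva z, (Finset.mem_filter.1 hz).2,
      show s z * 2 * (s z * 2) = 4 * (s z * s z) by ring, hss] at h
    omega
  have hrow : ∀ Z : Matrix ι ι ℤ, (∀ i j, Z i j = Z j i) → Z * Z = (4 : ℤ) • Z →
      Z * W = (4 : ℤ) • W → ∀ z ∈ S₂, 2 ≤ Z z z := by
    intro Z hZs hZ hZW z hz
    by_contra hlt
    have h := (row_two (hsymcj Z hZs) (hmulcj Z 4 hZ) (hmulv Z hZW) ha hS2
      (Finset.mem_filter.1 hz).2 (by rw [hdiag]; omega)).1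
    rw [hdiag] at h
    omega
  have htwo : ∀ z ∈ S₂, X z z = 2 ∧ Y z z = 2 := fun z hz => by
    have := hXY z hz
    have := hrow X hXs hX hXW z hz
    have := hrow Y hYs hY hYW z hz
    omega
  have hpair : ∀ Z : Matrix ι ι ℤ, (∀ i j, Z i j = Z j i) → Z * Z = (4 : ℤ) • Z →
      Z * W = (4 : ℤ) • W → Z.trace = 16 → (∀ z ∈ S₂, Z z z = 2) →
      ∃ y ∈ S₂, ∃ z ∈ S₂, z ≠ y ∧ cj Z y z = 2 := by
    intro Z hZs hZ hZW hZt hZ2
    by_contra hno
    push Not at hno
    have hT : ∀ w ∈ S₂, cj Z w w = 2 ∧ (∀ z ∈ S₂, z ≠ w → cj Z w z = 0) ∧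
        (∀ i, a i = 1 → cj Z w i = 0 ∨ cj Z w i = 1) ∧
        ∑ i ∈ Finset.univ.filter (fun i => a i = 1), cj Z w i = 4 := by
      intro w hw
      obtain ⟨h1, h⟩ := row_two (hsymcj Z hZs) (hmulcj Z 4 hZ) (hmulv Z hZW) ha hS2
        (Finset.mem_filter.1 hw).2 (by rw [hdiag, hZ2 w hw])
      rcases h with ⟨z, hzw, hz2, hz⟩ | ⟨h0, h01, hs4⟩
      · exact absurd hz (hno w hw z (by simp [hS₂, hz2]) hzw)
      · exact ⟨h1, fun z hz hzw => h0 z hzw (Finset.mem_filter.1 hz).2, h01, hs4⟩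
    have hmet := two_le_of_met (hsymcj Z hZs) (hmulcj Z 4 hZ) (hmulv Z hZW) ha
      (fun i => by rw [hdiag]; exact hdpos Z hZs hZ hZW i) (S := S₂) (by simp [hS₂])
      fun w hw => ⟨(hT w hw).1, (hT w hw).2.1, (hT w hw).2.2.1⟩
    have hfil : Finset.univ.filter (fun i => ¬ a i = 1) = S₂ := by
      rw [hS₂]
      refine Finset.filter_congr fun i _ => ?_
      rcases ha i with h | h <;> simp [h]
    have hcard1 : ((Finset.univ.filter fun i => a i = 1).card : ℤ) + (S₂.card : ℤ) =
        (Fintype.card ι : ℤ) := by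
      rw [← hfil, ← Nat.cast_add, Finset.card_filter_add_card_filter_not, Finset.card_univ]
    have h : ∑ i ∈ Finset.univ.filter (fun i => a i = 1), (1 + ∑ w ∈ S₂, cj Z w i) +
        ∑ i ∈ S₂, (2 : ℤ) ≤ 16 := by
      have hs := Finset.sum_filter_add_sum_filter_not Finset.univ (fun i => a i = 1) (fun i => Z i i)
      rw [show ∑ i, Z i i = 16 from hZt, hfil] at hs
      rw [← hs]
      refine add_le_add (Finset.sum_le_sum fun i hi => ?_)
        (Finset.sum_le_sum fun i hi => (hZ2 i hi).ge)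
      rw [← hdiag Z i]
      exact hmet i (Finset.mem_filter.1 hi).2
    rw [Finset.sum_add_distrib, Finset.sum_comm, Finset.sum_congr rfl fun w hw => (hT w hw).2.2.2] at h
    simp only [Finset.sum_const, nsmul_eq_mul, mul_one] at h
    omega
  obtain ⟨y₁, hy₁, z₁, hz₁, hne₁, hXp⟩ := hpair X hXs hX hXW hXt fun z hz => (htwo z hz).1
  obtain ⟨y₂, hy₂, z₂, hz₂, hne₂, hYp⟩ := hpair Y hYs hY hYW hYt fun z hz => (htwo z hz).2
  have hset : S₂ = {y₁, z₁} := (Finset.eq_of_subset_of_card_le (by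
    intro i hi
    rcases Finset.mem_insert.1 hi with rfl | hi
    · exact hy₁
    · rw [Finset.mem_singleton.1 hi]; exact hz₁) (by rw [Finset.card_pair (Ne.symm hne₁)]; exact hS2)).symm
  have hYp' : cj Y y₁ z₁ = 2 := by
    rw [hset] at hy₂ hz₂
    simp only [Finset.mem_insert, Finset.mem_singleton] at hy₂ hz₂
    rcases hy₂ with rfl | rfl <;> rcases hz₂ with rfl | rfl
    · exact absurd rfl hne₂
    · exact hYp
    · rw [hsymcj Y hYs]; exact hYp
    · exact absurd rfl hne₂
  have hr := row_sq hRs hR y₁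
  have hge : R y₁ y₁ ^ 2 + R y₁ z₁ ^ 2 ≤ ∑ l, R y₁ l ^ 2 := by
    rw [← Finset.sum_pair (f := fun l => R y₁ l ^ 2) (Ne.symm hne₁)]
    exact Finset.sum_le_sum_of_subset_of_nonneg (Finset.subset_univ _) fun _ _ _ => sq_nonneg _
  have e1 : R y₁ y₁ = 4 := by
    rw [hRval, if_pos rfl, hva y₁, (Finset.mem_filter.1 hy₁).2, (htwo y₁ hy₁).1, (htwo y₁ hy₁).2,
      show s y₁ * 2 * (s y₁ * 2) = 4 * (s y₁ * s y₁) by ring, hss]
    norm_num
  have e2 : R y₁ z₁ ^ 2 = 144 := by
    have hx : X y₁ z₁ = 2 * (s y₁ * s z₁) := by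
      simp only [cj] at hXp
      linear_combination (s y₁ * s z₁) * hXp -
        X y₁ z₁ * hss y₁ - (s y₁ * s y₁ * X y₁ z₁) * hss z₁
    have hy' : Y y₁ z₁ = 2 * (s y₁ * s z₁) := by
      simp only [cj] at hYp'
      linear_combination (s y₁ * s z₁) * hYp' -
        Y y₁ z₁ * hss y₁ - (s y₁ * s y₁ * Y y₁ z₁) * hss z₁
    rw [hRval, if_neg (Ne.symm hne₁), hx, hy', hva y₁, hva z₁, (Finset.mem_filter.1 hy₁).2,
      (Finset.mem_filter.1 hz₁).2]
    linear_combination 144 * (s z₁ * s z₁) * hss y₁ + 144 * hss z₁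
  rw [hr, e1, e2] at hge
  norm_num at hge

end Cfsg.Agent.StarMat
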