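import Cfsg.Agent.Lib.StarMat.Basic
import Cfsg.Agent.Lib.StarMat.Sixteen
import Cfsg.Agent.Lib.StarMat.NineSixteen
import Cfsg.Agent.Lib.CycDefect.Setup
import Cfsg.Agent.Lib.Blocks.FreeInertial.Units
import Cfsg.Agent.S4687

/-!
# Blocks with elementary defect group of order sixteen and inertial quotient of order nine

* `lrank_one_of_free`: the local rank at an element with free inertial action is one;
* `local_rank`: the rank three of a block whose stabiliser fixes one factor of order four and is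
  transitive on the other;
* `main`: `k(B) = 16` and `l(B) = 9`, provided the local blocks are not nilpotent.
-/

set_option autoImplicit false
set_option synthInstance.maxHeartbeats 200000
set_option maxHeartbeats 1000000
set_option linter.unusedSectionVars false

open scoped ComplexConjugate

namespace Cfsg.Agent.E16Nine

open Cfsg Cfsg.Agent.Blocks Cfsg.Agent.BrauerPairs Cfsg.Agent.LocalRank Cfsg.Agent.Star
open Cfsg.Agent.StarMat

universe u

variable {G : Type u} [Group G]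

/-- The indicator of a subgroup. -/
noncomputable def ind (S : Subgroup G) : G → ℂ := (S : Set G).indicator 1

theorem ind_of_mem {S : Subgroup G} {x : G} (h : x ∈ S) : ind S x = 1 := by
  simp [ind, h]

theorem ind_of_notMem {S : Subgroup G} {x : G} (h : x ∉ S) : ind S x = 0 := by
  simp [ind, h]

theorem ind_real (S : Subgroup G) (x : G) : conj (ind S x) = ind S x := by
  by_cases h : x ∈ S
  · rw [ind_of_mem h, map_one]
  · rw [ind_of_notMem h, map_zero]

theorem ind_conj {S : Subgroup G} {T : Subgroup G} (h : ∀ t ∈ T, ∀ x ∈ S, t * x * t⁻¹ ∈ S)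
    {t : G} (ht : t ∈ T) (v : G) : ind S (t * v * t⁻¹) = ind S v := by
  by_cases hv : v ∈ S
  · rw [ind_of_mem hv, ind_of_mem (h t ht v hv)]
  · rw [ind_of_notMem hv, ind_of_notMem fun h' => hv ?_]
    simpa [mul_assoc] using h t⁻¹ (inv_mem ht) _ h'

theorem isGen_congr {P : Subgroup G} {f g : P → ℂ} (h : IsGeneralizedCharacter P f) (he : ∀ x, g x = f x) :
    IsGeneralizedCharacter P g := by
  rwa [funext he]

/-- A multiple of the indicator of a subgroup of an abelian group. -/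
theorem ind_gen {P : Subgroup G} [Finite P] (hab : ∀ x ∈ P, ∀ y ∈ P, x * y = y * x)
    (S : Subgroup G) {m : ℕ} (hm : (S.subgroupOf P).index ∣ m) :
    IsGeneralizedCharacter P fun x : P => (m : ℂ) * ind S x := by
  classical
  let _ : CommGroup P :=
    { (inferInstance : Group P) with mul_comm := fun x y => Subtype.ext (hab _ x.2 _ y.2) }
  obtain ⟨d, rfl⟩ := hm
  have h := Char.IsGeneralizedCharacter.intCast_smul (FreeInertial.gen_perm (S.subgroupOf P)) d
  refine isGen_congr h fun x => ?_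
  simp only [Pi.smul_apply, smul_eq_mul, Subgroup.mem_subgroupOf, Nat.cast_mul, Int.cast_natCast]
  by_cases hx : (x : G) ∈ S
  · rw [ind_of_mem hx, if_pos hx]; ring
  · rw [ind_of_notMem hx, if_neg hx]; ring

/-- `P = F × N` with both factors of order four. -/
structure Split (P F N : Subgroup G) : Prop where
  leF : F ≤ P
  leN : N ≤ P
  cardF : Nat.card F = 4
  cardN : Nat.card N = 4
  disj : ∀ x ∈ F, x ∈ N → x = 1
  dec : ∀ v ∈ P, ∃ f ∈ F, ∃ n ∈ N, v = f * n

variable {P F N : Subgroup G}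

theorem Split.cancel (hS : Split P F N) {f f' n n' : G} (hf : f ∈ F) (hf' : f' ∈ F) (hn : n ∈ N)
    (hn' : n' ∈ N) (h : f * n = f' * n') : f = f' ∧ n = n' := by
  have e1 : f'⁻¹ * f = n' * n⁻¹ := by
    calc f'⁻¹ * f = f'⁻¹ * (f * n) * n⁻¹ := by group
      _ = _ := by rw [h]; group
  have h1 := hS.disj _ (mul_mem (inv_mem hf') hf) (e1 ▸ mul_mem hn' (inv_mem hn))
  have h2 : f' = f := inv_mul_eq_one.1 h1
  exact ⟨h2.symm, by rw [h2] at h; exact mul_left_cancel h⟩

theorem Split.mem_left (hS : Split P F N) {f n : G} (hf : f ∈ F) (hn : n ∈ N) :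
    f * n ∈ F ↔ n = 1 := by
  refine ⟨fun h => (hS.cancel h hf N.one_mem hn (mul_one _)).2.symm, ?_⟩
  rintro rfl
  rwa [mul_one]

theorem Split.mem_right (hS : Split P F N) {f n : G} (hf : f ∈ F) (hn : n ∈ N) :
    f * n ∈ N ↔ f = 1 := by
  refine ⟨fun h => (hS.cancel F.one_mem hf h hn (one_mul _)).1.symm, ?_⟩
  rintro rfl
  rwa [one_mul]

/-- The product map as a bijection. -/
noncomputable def Split.equiv (hS : Split P F N) : F × N ≃ P :=
  Equiv.ofBijective (fun q => ⟨(q.1 : G) * q.2, mul_mem (hS.leF q.1.2) (hS.leN q.2.2)⟩)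
    ⟨fun q r h => by
      obtain ⟨h1, h2⟩ := hS.cancel q.1.2 r.1.2 q.2.2 r.2.2 (congrArg Subtype.val h)
      exact Prod.ext (Subtype.ext h1) (Subtype.ext h2),
    fun v => by
      obtain ⟨f, hf, n, hn, h⟩ := hS.dec v v.2
      exact ⟨(⟨f, hf⟩, ⟨n, hn⟩), Subtype.ext h.symm⟩⟩

@[simp] theorem Split.equiv_apply (hS : Split P F N) (q : F × N) :
    ((hS.equiv q : P) : G) = (q.1 : G) * q.2 := rfl

theorem Split.index (hS : Split P F N) (hP : Nat.card P = 16) :
    (F.subgroupOf P).index = 4 ∧ (N.subgroupOf P).index = 4 := by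
  constructor
  · have h := Subgroup.index_mul_card (F.subgroupOf P)
    rw [Nat.card_congr (Subgroup.subgroupOfEquivOfLe hS.leF).toEquiv, hS.cardF, hP] at h
    omega
  · have h := Subgroup.index_mul_card (N.subgroupOf P)
    rw [Nat.card_congr (Subgroup.subgroupOfEquivOfLe hS.leN).toEquiv, hS.cardN, hP] at h
    omega

theorem bot_index (hP : Nat.card P = 16) : ((⊥ : Subgroup G).subgroupOf P).index = 16 := by
  rw [Subgroup.bot_subgroupOf, Subgroup.index_bot, hP]

variable [Finite G] {p : ℕ} [Fact p.Prime] {M : Ideal AlgInt} {B : Set (IrrCharacter G)}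
  {e : Set (IrrCharacter (Subgroup.centralizer (P : Set G)))}

/-- The local rank at an element on which the inertial quotient acts freely is one. -/
theorem lrank_one_of_free (hM : IsPModular p M) (hmax : IsMaximalBrauerPair p M B P e)
    (hab : ∀ x ∈ P, ∀ y ∈ P, x * y = y * x) {v : G} (hv : v ∈ P)
    (hfree : ∀ t ∈ pairStab M P e, t * v * t⁻¹ = v → t ∈ Subgroup.centralizer (P : Set G)) :
    lrank p M P e (Subgroup.zpowers v) = 1 := by
  have hQP : Subgroup.zpowers v ≤ P := Subgroup.zpowers_le.2 hv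
  obtain ⟨f, hf, hle⟩ := exists_subpair hM hmax.1.1 hQP
  rw [lrank_eq hM hmax.1.1 hle]
  obtain ⟨P', e', hmax', hmap, hst, -⟩ := Watanabe.exists_down hM hmax hab hQP hf hle
  subst hmap
  have := Fintype.ofFinite (Subgroup.centralizer (Subgroup.zpowers v : Set G))
  refine CycDefect.blockRank_of_nilpotent hM ?_ (maximal_isDefectGroup hM hmax')
  rw [S4687.result p M hM f P' e' hmax' fun x hx y hy => Subtype.ext
    (hab _ (Subgroup.mem_map_of_mem _ hx) _ (Subgroup.mem_map_of_mem _ hy))]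
  intro g hgN hgst
  have hg := (hst g).1 ((mem_pairStab_iff hM hmax'.1.1.2).2 ⟨hgN, hgst⟩)
  refine (mem_centralizer_sub_iff P' g).2 (hfree _ hg ?_)
  rw [← (SecondMain.mem_centralizer_zpowers_iff.1 g.2).eq, mul_inv_cancel_right]

/-- The weights of an orbit add up to one. -/
theorem sum_wt_orb [Fintype P] (S : Finset P) (v : P) (h : ∀ w, w ∈ S ↔ w ∈ Watanabe.orb M P e v) :
    ∑ w ∈ S, Watanabe.wt M P e w = 1 := by
  classical
  rw [Finset.ext h, Finset.sum_congr rfl fun w hw =>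
    show Watanabe.wt M P e w = ((Watanabe.orb M P e v).card : ℂ)⁻¹ by
      rw [Watanabe.wt, Watanabe.orb_eq hw],
    Finset.sum_const, nsmul_eq_mul, mul_inv_cancel₀]
  exact Nat.cast_ne_zero.2 (Finset.card_ne_zero_of_mem (Watanabe.self_mem_orb v))

/-- An integral matrix for a real stable generalised character. -/
theorem exists_intMat [Fintype G] [Fintype B] (hM : IsPModular p M)
    (hmax : IsMaximalBrauerPair p M B P e) {φ : G → ℂ} (hst : IsStable p M P e φ)
    (hφ : IsGeneralizedCharacter P fun x : P => φ x) (hreal : ∀ x, conj (φ x) = φ x) :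
    ∃ W : Matrix B B ℤ, W.map (Int.cast : ℤ → ℂ) = mat p M B P e φ ∧ ∀ i j, W i j = W j i := by
  choose W hW using exists_int hM hmax hst hφ
  refine ⟨W, funext fun i => funext fun j => (hW i j).symm, fun i j => ?_⟩
  have h := mat_symm hM hmax hreal i j
  rw [hW, hW, map_intCast] at h
  exact_mod_cast h

theorem intMat_mul [Fintype B] (hM : IsPModular p M) [Fintype G]
    (hmax : IsMaximalBrauerPair p M B P e) {φ φ' φ'' : G → ℂ} {W W' W'' : Matrix B B ℤ} {c : ℤ}
    (hst : IsStable p M P e φ') (hW : W.map (Int.cast : ℤ → ℂ) = mat p M B P e φ)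
    (hW' : W'.map (Int.cast : ℤ → ℂ) = mat p M B P e φ')
    (hW'' : W''.map (Int.cast : ℤ → ℂ) = mat p M B P e φ'')
    (h : φ * φ' = (c : ℂ) • φ'') : W' * W = c • W'' := by
  apply Matrix.map_injective (Int.cast_injective (α := ℂ))
  show (W' * W).map (Int.castRingHom ℂ) = _
  rw [Matrix.map_mul]
  show W'.map (Int.cast : ℤ → ℂ) * W.map (Int.cast : ℤ → ℂ) = _
  rw [hW, hW', ← mat_mul hM hmax hst, h, mat_smul, ← hW'']
  ext i j
  simp only [Matrix.smul_apply, Matrix.map_apply, smul_eq_mul, Int.cast_mul]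

theorem intMat_trace [Fintype B] [Fintype G] [Fintype P] (hM : IsPModular p M)
    (hmax : IsMaximalBrauerPair p M B P e) (hab : ∀ x ∈ P, ∀ y ∈ P, x * y = y * x) {φ : G → ℂ}
    (hst : IsStable p M P e φ) {W : Matrix B B ℤ}
    (hW : W.map (Int.cast : ℤ → ℂ) = mat p M B P e φ) {c : ℤ}
    (h : ∑ v : P, Watanabe.wt M P e v *
      (φ (v : G) * (lrank p M P e (Subgroup.zpowers (v : G)) : ℂ)) = c) : W.trace = c := by
  apply Int.cast_injective (α := ℂ)
  rw [← h, ← trace_mat hM hmax hab hst, ← hW]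
  simp [Matrix.trace]

theorem intMat_diag [Fintype B] [DecidableEq B] [Fintype G] (hM : IsPModular p M)
    (hmax : IsMaximalBrauerPair p M B P e) (hab : ∀ x ∈ P, ∀ y ∈ P, x * y = y * x) {φ : G → ℂ}
    (hst : IsStable p M P e φ) {W : Matrix B B ℤ}
    (hW : W.map (Int.cast : ℤ → ℂ) = mat p M B P e φ) (hs : ∀ i j, W i j = W j i) {c : ℤ}
    (hW2 : W * W = c • W) {v : G} (hv : v ∈ P) (hφv : φ v ≠ 0) (i : B) : W i i ≠ 0 := by
  intro h0
  obtain ⟨ha, haB⟩ := Watanabe.below_mem hM hmax ⟨v, hv⟩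
  have hu := Watanabe.exists_order hmax ⟨v, hv⟩
  obtain ⟨j, hj⟩ := row_ne_zero hM hmax hst hv hφv i
    (Star.exists_piece_ne_zero_of_defect hM hu ha haB
      (Star.blockDefect_eq_of_major hM hmax hu ha (Watanabe.below_le hM hmax.1.1 ⟨v, hv⟩)
        fun y hy => hab v hv y hy) i.2)
  have hr := row_sq hs hW2 i
  rw [h0, mul_zero] at hr
  have h := (Finset.sum_eq_zero_iff_of_nonneg fun l _ => sq_nonneg (W i l)).1 hr j (Finset.mem_univ _)
  rw [pow_eq_zero_iff two_ne_zero] at h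
  refine hj ?_
  rw [← hW, Matrix.map_apply, h, Int.cast_zero]

/-! ### One factor fixed -/

/-- The stabiliser fixes `F` pointwise and is transitive on `N \ 1`: the rank is three. -/
theorem local_rank [Fact (Nat.Prime 2)] (hM : IsPModular 2 M)
    (hmax : IsMaximalBrauerPair 2 M B P e) (hP : Nat.card P = 16)
    (hab : ∀ x ∈ P, ∀ y ∈ P, x * y = y * x) (hS : Split P F N)
    (hfix : ∀ t ∈ pairStab M P e, ∀ f ∈ F, t * f * t⁻¹ = f)
    (hNst : ∀ t ∈ pairStab M P e, ∀ n ∈ N, t * n * t⁻¹ ∈ N)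
    (htr : ∀ x ∈ N, x ≠ 1 → ∀ y ∈ N, y ≠ 1 → ∃ t ∈ pairStab M P e, t * x * t⁻¹ = y)
    (hfree : ∀ t ∈ pairStab M P e, ∀ n ∈ N, n ≠ 1 → t * n * t⁻¹ = n →
      t ∈ Subgroup.centralizer (P : Set G))
    (hne : blockRank 2 B ≠ 1) : blockRank 2 B = 3 := by
  classical
  have := Fintype.ofFinite G
  have := Fintype.ofFinite P
  have := Fintype.ofFinite F
  have := Fintype.ofFinite N
  have := Fintype.ofFinite B
  set l := blockRank 2 B with hl
  have hpos : 0 < l := KleinDefect.blockRank_pos hM hmax.1.2.1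
  -- the local ranks
  have hlr : ∀ (f : F) (n : N), lrank 2 M P e (Subgroup.zpowers ((f : G) * n)) =
      if n = 1 then l else 1 := by
    intro f n
    split_ifs with hn
    · subst hn
      rw [OneMemClass.coe_one, mul_one]
      exact Watanabe.rank_eq_of_fixed hM hmax hab (hS.leF f.2) fun t ht => hfix t ht f f.2
    · refine lrank_one_of_free hM hmax hab (mul_mem (hS.leF f.2) (hS.leN n.2)) fun t ht h => ?_
      refine hfree t ht n n.2 (fun h' => hn (Subtype.ext h')) ?_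
      have h' : (f : G) * (t * n * t⁻¹) = f * n := by
        conv_lhs => rw [← hfix t ht f f.2]
        rw [← h]; group
      exact mul_left_cancel h'
  have hwt : ∀ (f : F) (n : N), Watanabe.wt M P e (hS.equiv (f, n)) =
      Watanabe.wt M P e ⟨n, hS.leN n.2⟩ := by
    intro f n
    rw [show hS.equiv (f, n) = (⟨f, hS.leF f.2⟩ : P) * ⟨n, hS.leN n.2⟩ from Subtype.ext rfl]
    exact Watanabe.wt_mul_fixed (fun t ht => hfix t ht f f.2) _
  obtain ⟨n₀, hn₀⟩ : ∃ n : N, n ≠ 1 := by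
    by_contra hcon
    push Not at hcon
    have : Nat.card N = 1 := Nat.card_eq_one_iff_exists.2 ⟨1, hcon⟩
    rw [hS.cardN] at this
    omega
  have hsumN : ∑ n ∈ Finset.univ.erase (1 : N), Watanabe.wt M P e ⟨n, hS.leN n.2⟩ = 1 := by
    rw [← sum_wt_orb (M := M) (e := e) ((Finset.univ.erase (1 : N)).map
      ⟨fun n : N => (⟨(n : G), hS.leN n.2⟩ : P), fun a b h => Subtype.ext (congrArg (fun z : P => (z : G)) h :)⟩)
      ⟨n₀, hS.leN n₀.2⟩ fun w => ?_, Finset.sum_map]
    · rfl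
    · simp only [Finset.mem_map, Finset.mem_erase, Finset.mem_univ, and_true,
        Function.Embedding.coeFn_mk, Watanabe.mem_orb]
      constructor
      · rintro ⟨n, hn, rfl⟩
        obtain ⟨t, ht, h⟩ := htr n₀ n₀.2 (fun h => hn₀ (Subtype.ext h)) n n.2
          (fun h => hn (Subtype.ext h))
        exact ⟨t, ht, h.symm⟩
      · rintro ⟨t, ht, hw⟩
        refine ⟨⟨_, hNst t ht n₀ n₀.2⟩, fun h => hn₀ (Subtype.ext ?_), Subtype.ext hw.symm⟩
        exact conj_eq_one_iff.1 (congrArg Subtype.val h)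
  -- sums over the elements of `P`
  have hsum : ∀ g : P → ℂ, ∀ a b : F → ℂ, (∀ f, g (hS.equiv (f, 1)) = a f) →
      (∀ f n, n ≠ 1 → g (hS.equiv (f, n)) = b f) →
      ∑ v : P, Watanabe.wt M P e v * g v = ∑ f, (a f + b f) := by
    intro g a b ha hb
    rw [← Equiv.sum_comp hS.equiv, Fintype.sum_prod_type]
    refine Finset.sum_congr rfl fun f _ => ?_
    simp only [hwt]
    rw [← Finset.add_sum_erase _ _ (Finset.mem_univ (1 : N)), ha,
      Finset.sum_congr rfl fun n hn => by rw [hb f n (Finset.ne_of_mem_erase hn)],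
      ← Finset.sum_mul, hsumN, show (⟨((1 : N) : G), hS.leN (1 : N).2⟩ : P) = 1 from rfl,
      Watanabe.wt_one, one_mul, one_mul]
  have hk : Nat.card B = 4 * (l + 1) := by
    apply Nat.cast_injective (R := ℂ)
    rw [Watanabe.card_eq_sum hM hmax hab,
      hsum (fun v => (lrank 2 M P e (Subgroup.zpowers (v : G)) : ℂ)) (fun _ => (l : ℂ)) (fun _ => 1)
        (fun f => by simp only [hS.equiv_apply, hlr, if_true])
        (fun f n hn => by simp only [hS.equiv_apply, hlr, hn, if_false, Nat.cast_one]),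
      Finset.sum_const, Finset.card_univ, ← Nat.card_eq_fintype_card, hS.cardF, nsmul_eq_mul]
    push_cast
    ring
  -- the contributions of `N \ 1`
  let φ : G → ℂ := fun x => 16 * (ind N x - ind ⊥ x)
  have hT : ∀ t ∈ pairStab M P e, ∀ x ∈ (⊥ : Subgroup G), t * x * t⁻¹ ∈ (⊥ : Subgroup G) := by
    intro t _ x hx
    rw [Subgroup.mem_bot] at hx ⊢
    simp [hx]
  have hst : IsStable 2 M P e φ := isStable_of_invariant hM hmax hab fun t ht v _ => by
    simp only [φ, ind_conj hNst ht, ind_conj hT ht]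
  have hgen : IsGeneralizedCharacter P fun x : P => φ x := by
    refine isGen_congr (Char.IsGeneralizedCharacter.sub
      (ind_gen hab N (m := 16) (by rw [(hS.index hP).2]; norm_num))
      (ind_gen hab ⊥ (m := 16) (by rw [bot_index hP]))) fun x => ?_
    simp only [φ, Pi.sub_apply]
    push_cast
    ring
  obtain ⟨W, hW, hWs⟩ := exists_intMat hM hmax hst hgen fun x => by
    simp only [φ, map_mul, map_sub, ind_real, map_ofNat]
  have hW2 : W * W = (16 : ℤ) • W := intMat_mul hM hmax hst hW hW hW (by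
    funext x
    simp only [φ, Pi.mul_apply, Pi.smul_apply, smul_eq_mul, Int.cast_ofNat]
    by_cases h1 : x ∈ (⊥ : Subgroup G)
    · rw [ind_of_mem h1, ind_of_mem (bot_le (a := N) h1)]; ring
    · by_cases h2 : x ∈ N
      · rw [ind_of_mem h2, ind_of_notMem h1]; ring
      · rw [ind_of_notMem h2, ind_of_notMem h1]; ring)
  have hWt : W.trace = 16 := intMat_trace hM hmax hab hst hW (by
    rw [hsum (fun v => φ (v : G) * (lrank 2 M P e (Subgroup.zpowers (v : G)) : ℂ)) (fun _ => 0)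
      (fun f => if f = 1 then 16 else 0) (fun f => ?_) fun f n hn => ?_]
    · simp
    · simp only [hS.equiv_apply, OneMemClass.coe_one, mul_one]
      by_cases hf : (f : G) = 1
      · simp [φ, hf, ind_of_mem (one_mem N), ind_of_mem (one_mem (⊥ : Subgroup G))]
      · have h1 : (f : G) ∉ N := fun h => hf (hS.disj _ f.2 h)
        simp [φ, ind_of_notMem h1, ind_of_notMem (fun h : (f : G) ∈ (⊥ : Subgroup G) =>
          hf (Subgroup.mem_bot.1 h))]
    · have h0 : (f : G) * n ∉ (⊥ : Subgroup G) := fun h => hn (Subtype.ext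
        (hS.cancel f.2 F.one_mem n.2 N.one_mem (by rw [mul_one]; exact Subgroup.mem_bot.1 h)).2)
      simp only [hS.equiv_apply]
      rw [hlr, if_neg hn, Nat.cast_one, mul_one]
      by_cases hf : f = 1
      · subst hf
        rw [OneMemClass.coe_one, one_mul] at h0 ⊢
        simp [φ, ind_of_notMem h0, ind_of_mem n.2]
      · rw [if_neg hf]
        simp [φ, ind_of_notMem h0, ind_of_notMem (fun h => hf (Subtype.ext
          ((hS.mem_right f.2 n.2).1 h)))])
  have hcard : 9 ≤ Fintype.card B := by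
    rw [← Nat.card_eq_fintype_card, hk]; omega
  obtain ⟨v, -, hv12, hvsum⟩ := exists_vector hWs hW2 hWt
    (intMat_diag hM hmax hab hst hW hWs hW2 (hS.leN n₀.2) (by
      have h0 : (n₀ : G) ∉ (⊥ : Subgroup G) := fun h => hn₀ (Subtype.ext (Subgroup.mem_bot.1 h))
      simp [φ, ind_of_notMem h0, ind_of_mem n₀.2])) hcard
  have hcount : (Fintype.card B : ℤ) + 3 * ((Finset.univ.filter fun i => v i ^ 2 = 4).card : ℤ) =
      16 := by
    rw [← hvsum, Finset.sum_congr rfl fun i _ =>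
      show v i ^ 2 = 1 + (if v i ^ 2 = 4 then 3 else 0) by
        rcases hv12 i with h | h <;> simp [h]]
    rw [Finset.sum_add_distrib, Finset.sum_ite, Finset.sum_const_zero, add_zero, Finset.sum_const,
      Finset.sum_const, Finset.card_univ, nsmul_eq_mul, nsmul_eq_mul, mul_one]
    ring
  rw [← Nat.card_eq_fintype_card, hk] at hcount
  omega

/-! ### The main count -/

/-- `k(B) = 16` and `l(B) = 9`. -/
theorem main [Fact (Nat.Prime 2)] (hM : IsPModular 2 M) (hmax : IsMaximalBrauerPair 2 M B P e)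
    (hP : Nat.card P = 16) (hexp : ∀ x ∈ P, x * x = 1)
    (he : (Subgroup.centralizer (P : Set G)).relIndex (pairStab M P e) = 9)
    (hloc : ∀ v ∈ P, ∀ t ∈ pairStab M P e, t ∉ Subgroup.centralizer (P : Set G) →
      t * v * t⁻¹ = v → lrank 2 M P e (Subgroup.zpowers v) ≠ 1) :
    Nat.card B = 16 ∧ blockRank 2 B = 9 := by
  classical
  have := Fintype.ofFinite G
  have := Fintype.ofFinite P
  have := Fintype.ofFinite B
  have hab : ∀ x ∈ P, ∀ y ∈ P, x * y = y * x := KleinDefect.abelian_of_mul_self hexp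
  obtain ⟨F, N, hFP, hNP, hF, hN, hdisj, hdec, hstab, htrF, htrN, hfF, hfN⟩ :=
    NineSixteen.exists_decomposition hP hexp
      (pairStab_le_normalizer P e : pairStab M P e ≤ _) he
  have hS : Split P F N := ⟨hFP, hNP, hF, hN, hdisj, hdec⟩
  have hS' : Split P N F := ⟨hNP, hFP, hN, hF, fun x h h' => hdisj x h' h, fun v hv => by
    obtain ⟨f, hf, n, hn, rfl⟩ := hdec v hv
    exact ⟨n, hn, f, hf, hab f (hFP hf) n (hNP hn)⟩⟩
  obtain ⟨f₀, hf₀, hf₀1⟩ : ∃ f ∈ F, f ≠ 1 := F.bot_or_exists_ne_one.resolve_left fun h => by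
    rw [h, Subgroup.card_bot] at hF; omega
  obtain ⟨n₀, hn₀, hn₀1⟩ : ∃ n ∈ N, n ≠ 1 := N.bot_or_exists_ne_one.resolve_left fun h => by
    rw [h, Subgroup.card_bot] at hN; omega
  -- an element fixing both factors pointwise centralises `P`
  have hcent : ∀ t, (∀ x ∈ F, t * x * t⁻¹ = x) → (∀ x ∈ N, t * x * t⁻¹ = x) →
      t ∈ Subgroup.centralizer (P : Set G) := by
    intro t h1 h2
    rw [Subgroup.mem_centralizer_iff]
    intro x hx
    obtain ⟨f, hf, n, hn, rfl⟩ := hdec x hx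
    calc f * n * t = t * f * t⁻¹ * (t * n * t⁻¹) * t := by rw [h1 f hf, h2 n hn]
      _ = t * (f * n) := by group
  -- the rank at the non-trivial elements of a factor
  have hfactor : ∀ {K L : Subgroup G}, Split P K L →
      (∀ t ∈ pairStab M P e, ∀ n ∈ L, t * n * t⁻¹ ∈ L) →
      (∀ x ∈ L, x ≠ 1 → ∀ y ∈ L, y ≠ 1 →
        ∃ t ∈ pairStab M P e, t * x * t⁻¹ = y ∧ ∀ f ∈ K, t * f * t⁻¹ = f) →
      (∀ t ∈ pairStab M P e, ∀ x ∈ K, x ≠ 1 → t * x * t⁻¹ = x → ∀ y ∈ K, t * y * t⁻¹ = y) →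
      (∀ t ∈ pairStab M P e, ∀ x ∈ L, x ≠ 1 → t * x * t⁻¹ = x → ∀ y ∈ L, t * y * t⁻¹ = y) →
      (∀ t, (∀ x ∈ K, t * x * t⁻¹ = x) → (∀ x ∈ L, t * x * t⁻¹ = x) →
        t ∈ Subgroup.centralizer (P : Set G)) →
      ∀ v ∈ K, v ≠ 1 → lrank 2 M P e (Subgroup.zpowers v) = 3 := by
    intro K L hKL hLst htr hK hL hc v hv hv1
    have hQP : Subgroup.zpowers v ≤ P := Subgroup.zpowers_le.2 (hKL.leF hv)
    obtain ⟨f, hf, hle⟩ := exists_subpair hM hmax.1.1 hQP
    -- some element moves `L` and fixes `v`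
    obtain ⟨n₁, hn₁, hn₁1⟩ : ∃ n ∈ L, n ≠ 1 := L.bot_or_exists_ne_one.resolve_left fun h => by
      have := hKL.cardN
      rw [h, Subgroup.card_bot] at this; omega
    obtain ⟨n₂, hn₂, hn₂1, hn₂n⟩ : ∃ n ∈ L, n ≠ 1 ∧ n ≠ n₁ := by
      by_contra hcon
      push Not at hcon
      have : (L : Set G).ncard ≤ ({1, n₁} : Set G).ncard :=
        Set.ncard_le_ncard (fun x hx => by
          by_cases h : x = 1
          · exact Or.inl h
          · exact Or.inr (hcon x hx h)) (Set.toFinite _)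
      rw [← Nat.card_coe_set_eq, SetLike.coe_sort_coe, hKL.cardN] at this
      have := (Set.ncard_insert_le (1 : G) {n₁}).trans (by rw [Set.ncard_singleton])
      omega
    obtain ⟨t₀, ht₀, ht₀n, ht₀K⟩ := htr n₁ hn₁ hn₁1 n₂ hn₂ hn₂1
    have hne : blockRank 2 f ≠ 1 := by
      rw [← lrank_eq hM hmax.1.1 hle]
      refine hloc v (hKL.leF hv) t₀ ht₀ (fun hC => hn₂n ?_) (ht₀K v hv)
      rw [← ht₀n, ← Subgroup.mem_centralizer_iff.1 hC n₁ (hKL.leN hn₁), mul_inv_cancel_right]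
    rw [lrank_eq hM hmax.1.1 hle]
    obtain ⟨P', e', hmax', hmap, hst, -⟩ := Watanabe.exists_down hM hmax hab hQP hf hle
    have hPH : P ≤ (Subgroup.centralizer (Subgroup.zpowers v : Set G)) := hmap ▸ Subgroup.map_subtype_le P'
    have hP'mem : ∀ x : (Subgroup.centralizer (Subgroup.zpowers v : Set G)), x ∈ P' ↔ (x : G) ∈ P := fun x => by
      rw [← hmap]
      exact ⟨fun h => Subgroup.mem_map_of_mem _ h, fun ⟨y, hy, h⟩ => Subtype.ext h ▸ hy⟩
    have hfixK : ∀ t ∈ pairStab M P' e', ∀ x ∈ K, (t : G) * x * (t : G)⁻¹ = x := fun t ht =>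
      hK _ ((hst t).1 ht) v hv hv1 (by
        rw [← (SecondMain.mem_centralizer_zpowers_iff.1 t.2).eq, mul_inv_cancel_right])
    have hS1 : Split P' (K.subgroupOf (Subgroup.centralizer (Subgroup.zpowers v : Set G))) (L.subgroupOf (Subgroup.centralizer (Subgroup.zpowers v : Set G))) := by
      refine ⟨fun x hx => (hP'mem x).2 (hKL.leF hx), fun x hx => (hP'mem x).2 (hKL.leN hx),
        ?_, ?_, fun x h h' => Subtype.ext (hKL.disj _ h h'), fun x hx => ?_⟩
      · rw [Nat.card_congr (Subgroup.subgroupOfEquivOfLe (hKL.leF.trans hPH)).toEquiv, hKL.cardF]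
      · rw [Nat.card_congr (Subgroup.subgroupOfEquivOfLe (hKL.leN.trans hPH)).toEquiv, hKL.cardN]
      · obtain ⟨a, ha, b, hb, h⟩ := hKL.dec x ((hP'mem x).1 hx)
        exact ⟨⟨a, hPH (hKL.leF ha)⟩, ha, ⟨b, hPH (hKL.leN hb)⟩, hb, Subtype.ext h⟩
    refine local_rank hM hmax' ?_ ?_ hS1 ?_ ?_ ?_ ?_ hne
    · rw [← hP, ← hmap, Subgroup.card_subtype]
    · exact fun x hx y hy => Subtype.ext (hab _ ((hP'mem x).1 hx) _ ((hP'mem y).1 hy))
    · exact fun t ht x hx => Subtype.ext (hfixK t ht x hx)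
    · exact fun t ht x hx => hLst _ ((hst t).1 ht) _ hx
    · intro x hx hx1 y hy hy1
      obtain ⟨t, ht, htxy, htK⟩ := htr x hx (fun h => hx1 (Subtype.ext h)) y hy
        (fun h => hy1 (Subtype.ext h))
      have htH : t ∈ (Subgroup.centralizer (Subgroup.zpowers v : Set G)) := SecondMain.mem_centralizer_zpowers_iff.2 (by
        show v * t = t * v
        conv_lhs => rw [← htK v hv]
        group)
      exact ⟨⟨t, htH⟩, (hst _).2 ht, Subtype.ext htxy⟩
    · intro t ht n hn hn1 h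
      rw [mem_centralizer_sub_iff, hmap]
      exact hc _ (hfixK t ht) (hL _ ((hst t).1 ht) n hn (fun h' => hn1 (Subtype.ext h'))
        (congrArg Subtype.val h))
  set l := blockRank 2 B with hl
  have hl1 : l ≠ 1 := by
    obtain ⟨f₁, hf₁, t, ht, htC⟩ : ∃ f ∈ F, ∃ t ∈ pairStab M P e,
        t ∉ Subgroup.centralizer (P : Set G) := by
      refine ⟨f₀, hf₀, ?_⟩
      by_contra hcon
      push Not at hcon
      have h1 : (Subgroup.centralizer (P : Set G)).relIndex (pairStab M P e) = 1 :=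
        Subgroup.relIndex_eq_one.2 hcon
      omega
    rw [hl, ← lrank_one hM hmax]
    exact hloc 1 P.one_mem t ht htC (by group)
  have hpos : 0 < l := KleinDefect.blockRank_pos hM hmax.1.2.1
  have hlF : ∀ v ∈ F, v ≠ 1 → lrank 2 M P e (Subgroup.zpowers v) = 3 :=
    hfactor hS (fun t ht => (hstab t ht).2) htrN hfF hfN hcent
  have hlN : ∀ v ∈ N, v ≠ 1 → lrank 2 M P e (Subgroup.zpowers v) = 3 :=
    hfactor hS' (fun t ht => (hstab t ht).1) htrF hfN hfF fun t h1 h2 => hcent t h2 h1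
  have hlU : ∀ v ∈ P, v ∉ F → v ∉ N → lrank 2 M P e (Subgroup.zpowers v) = 1 := by
    intro v hv hvF hvN
    obtain ⟨f, hf, n, hn, rfl⟩ := hdec v hv
    refine lrank_one_of_free hM hmax hab hv fun t ht h => ?_
    have h' : t * f * t⁻¹ * (t * n * t⁻¹) = f * n := by rw [← h]; group
    obtain ⟨e1, e2⟩ := hS.cancel ((hstab t ht).1 f hf) hf ((hstab t ht).2 n hn) hn h'
    exact hcent t (hfF t ht f hf (fun h0 => hvN ((hS.mem_right hf hn).2 h0)) e1)
      (hfN t ht n hn (fun h0 => hvF ((hS.mem_left hf hn).2 h0)) e2)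
  -- the four orbits
  have hsum : ∀ (g : P → ℂ) (a b c d : ℂ), g 1 = a →
      (∀ v : P, (v : G) ∈ F → (v : G) ≠ 1 → g v = b) →
      (∀ v : P, (v : G) ∈ N → (v : G) ≠ 1 → g v = c) →
      (∀ v : P, (v : G) ∉ F → (v : G) ∉ N → g v = d) →
      ∑ v : P, Watanabe.wt M P e v * g v = a + b + c + d := by
    intro g a b c d ha hb hc hd
    rw [← Finset.sum_filter_add_sum_filter_not Finset.univ (fun v : P => (v : G) ∈ F),
      ← Finset.add_sum_erase (Finset.univ.filter fun v : P => (v : G) ∈ F) _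
        (Finset.mem_filter.2 ⟨Finset.mem_univ 1, F.one_mem⟩),
      ← Finset.sum_filter_add_sum_filter_not (Finset.univ.filter fun v : P => ¬ (v : G) ∈ F)
        (fun v : P => (v : G) ∈ N),
      ha, Watanabe.wt_one, one_mul,
      Finset.sum_congr rfl fun v hv => show Watanabe.wt M P e v * g v = Watanabe.wt M P e v * b by
        obtain ⟨h1, h2⟩ := Finset.mem_erase.1 hv
        rw [hb v (Finset.mem_filter.1 h2).2 fun h => h1 (Subtype.ext h)],
      ← Finset.sum_mul, sum_wt_orb _ ⟨f₀, hFP hf₀⟩ fun w => ?_, one_mul,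
      Finset.sum_congr rfl fun v hv => show Watanabe.wt M P e v * g v = Watanabe.wt M P e v * c by
        obtain ⟨h1, h2⟩ := Finset.mem_filter.1 hv
        rw [hc v h2 fun h => (Finset.mem_filter.1 h1).2 (h ▸ F.one_mem)],
      ← Finset.sum_mul, sum_wt_orb _ ⟨n₀, hNP hn₀⟩ fun w => ?_, one_mul,
      Finset.sum_congr rfl fun v hv => show Watanabe.wt M P e v * g v = Watanabe.wt M P e v * d by
        obtain ⟨h1, h2⟩ := Finset.mem_filter.1 hv
        rw [hd v (Finset.mem_filter.1 h1).2 h2],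
      ← Finset.sum_mul, sum_wt_orb _ (⟨f₀ * n₀, mul_mem (hFP hf₀) (hNP hn₀)⟩ : P) fun w => ?_,
      one_mul]
    · ring
    · simp only [Finset.mem_filter, Finset.mem_univ, true_and, Watanabe.mem_orb]
      constructor
      · rintro ⟨h1, h2⟩
        obtain ⟨f, hf, n, hn, hfn⟩ := hdec w w.2
        obtain ⟨s, hs, hsf, hsN⟩ := htrF f₀ hf₀ hf₀1 f hf fun h => h2 (by rw [hfn, h, one_mul]; exact hn)
        obtain ⟨t, ht, htn, htF⟩ := htrN n₀ hn₀ hn₀1 n hn fun h => h1 (by rw [hfn, h, mul_one]; exact hf)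
        refine ⟨t * s, mul_mem ht hs, ?_⟩
        show (w : G) = t * s * (f₀ * n₀) * (t * s)⁻¹
        rw [hfn, ← htF f hf, ← htn, ← hsf]
        calc t * (s * f₀ * s⁻¹) * t⁻¹ * (t * n₀ * t⁻¹)
            = t * (s * f₀ * s⁻¹) * t⁻¹ * (t * (s * n₀ * s⁻¹) * t⁻¹) := by rw [hsN n₀ hn₀]
          _ = _ := by group
      · rintro ⟨t, ht, hw⟩
        have e1 : (w : G) = t * f₀ * t⁻¹ * (t * n₀ * t⁻¹) := by
          rw [hw]
          show t * (f₀ * n₀) * t⁻¹ = _
          group
        refine ⟨fun h => hn₀1 ((conj_eq_one_iff (a := t)).1 ?_), fun h => hf₀1 ((conj_eq_one_iff (a := t)).1 ?_)⟩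
        · exact (hS.mem_left ((hstab t ht).1 f₀ hf₀) ((hstab t ht).2 n₀ hn₀)).1 (e1 ▸ h)
        · exact (hS.mem_right ((hstab t ht).1 f₀ hf₀) ((hstab t ht).2 n₀ hn₀)).1 (e1 ▸ h)
    · simp only [Finset.mem_filter, Finset.mem_univ, true_and, Watanabe.mem_orb]
      constructor
      · rintro ⟨h1, h2⟩
        obtain ⟨t, ht, htx, -⟩ := htrN n₀ hn₀ hn₀1 w h2 fun h => h1 (h ▸ F.one_mem)
        exact ⟨t, ht, htx.symm⟩
      · rintro ⟨t, ht, hw⟩
        have hwN : (w : G) ∈ N := hw ▸ (hstab t ht).2 n₀ hn₀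
        exact ⟨fun h => hn₀1 (conj_eq_one_iff.1 (hw.symm.trans (hdisj _ h hwN))), hwN⟩
    · simp only [Finset.mem_erase, Finset.mem_filter, Finset.mem_univ, true_and, Watanabe.mem_orb]
      constructor
      · rintro ⟨h1, h2⟩
        obtain ⟨t, ht, htx, -⟩ := htrF f₀ hf₀ hf₀1 w h2 fun h => h1 (Subtype.ext h)
        exact ⟨t, ht, htx.symm⟩
      · rintro ⟨t, ht, hw⟩
        exact ⟨fun h => hf₀1 (conj_eq_one_iff.1 (hw.symm.trans (congrArg Subtype.val h))),
          hw ▸ (hstab t ht).1 f₀ hf₀⟩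
  have hk : Nat.card B = l + 7 := by
    apply Nat.cast_injective (R := ℂ)
    rw [Watanabe.card_eq_sum hM hmax hab,
      hsum (fun v => (lrank 2 M P e (Subgroup.zpowers (v : G)) : ℂ)) l 3 3 1
        (by rw [OneMemClass.coe_one, lrank_one hM hmax])
        (fun v h h1 => by rw [hlF _ h h1]; norm_num) (fun v h h1 => by rw [hlN _ h h1]; norm_num)
        (fun v h h' => by rw [hlU _ v.2 h h']; norm_num)]
    push_cast
    ring
  -- the matrices
  have hT : ∀ t ∈ pairStab M P e, ∀ x ∈ (⊥ : Subgroup G), t * x * t⁻¹ ∈ (⊥ : Subgroup G) := by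
    intro t _ x hx
    rw [Subgroup.mem_bot] at hx ⊢
    simp [hx]
  have h0N : ∀ {x : G}, x ∈ (⊥ : Subgroup G) → x ∈ N := fun h => bot_le (a := N) h
  have h0F : ∀ {x : G}, x ∈ (⊥ : Subgroup G) → x ∈ F := fun h => bot_le (a := F) h
  have hcases : ∀ x : G, (ind F x = 1 ∧ ind N x = 1 ∧ ind ⊥ x = 1) ∨
      (ind F x = 1 ∧ ind N x = 0 ∧ ind ⊥ x = 0) ∨ (ind F x = 0 ∧ ind N x = 1 ∧ ind ⊥ x = 0) ∨
      (ind F x = 0 ∧ ind N x = 0 ∧ ind ⊥ x = 0) := by
    intro x
    by_cases h0 : x ∈ (⊥ : Subgroup G)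
    · exact Or.inl ⟨ind_of_mem (h0F h0), ind_of_mem (h0N h0), ind_of_mem h0⟩
    right
    have h1 : x ∈ F → x ∉ N := fun h h' => h0 (Subgroup.mem_bot.2 (hdisj x h h'))
    by_cases hF' : x ∈ F
    · exact Or.inl ⟨ind_of_mem hF', ind_of_notMem (h1 hF'), ind_of_notMem h0⟩
    right
    by_cases hN' : x ∈ N
    · exact Or.inl ⟨ind_of_notMem hF', ind_of_mem hN', ind_of_notMem h0⟩
    · exact Or.inr ⟨ind_of_notMem hF', ind_of_notMem hN', ind_of_notMem h0⟩
  let φW : G → ℂ := fun x => 16 * (1 - ind F x - ind N x + ind ⊥ x)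
  let φX : G → ℂ := fun x => 4 * (1 - ind N x)
  let φY : G → ℂ := fun x => 4 * (1 - ind F x)
  let φR : G → ℂ := fun x => 16 * ind ⊥ x
  have hinv : ∀ t ∈ pairStab M P e, ∀ v : G, ind F (t * v * t⁻¹) = ind F v ∧
      ind N (t * v * t⁻¹) = ind N v ∧ ind ⊥ (t * v * t⁻¹) = ind ⊥ v := fun t ht v =>
    ⟨ind_conj (fun s hs => (hstab s hs).1) ht v, ind_conj (fun s hs => (hstab s hs).2) ht v,
      ind_conj hT ht v⟩
  have sW : IsStable 2 M P e φW := isStable_of_invariant hM hmax hab fun t ht v _ => by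
    obtain ⟨a, b, c⟩ := hinv t ht v
    simp only [φW, a, b, c]
  have sX : IsStable 2 M P e φX := isStable_of_invariant hM hmax hab fun t ht v _ => by
    simp only [φX, (hinv t ht v).2.1]
  have sY : IsStable 2 M P e φY := isStable_of_invariant hM hmax hab fun t ht v _ => by
    simp only [φY, (hinv t ht v).1]
  have sR : IsStable 2 M P e φR := isStable_of_invariant hM hmax hab fun t ht v _ => by
    simp only [φR, (hinv t ht v).2.2]
  have hone : ∀ m : ℕ, IsGeneralizedCharacter P fun _ : P => (m : ℂ) := fun m =>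
    isGen_congr (ind_gen hab P (m := m) (by rw [Subgroup.subgroupOf_self, Subgroup.index_top]; exact one_dvd m))
      fun x => by rw [ind_of_mem x.2, mul_one]
  have hgF : ∀ m : ℕ, 4 ∣ m → IsGeneralizedCharacter P fun x : P => (m : ℂ) * ind F x :=
    fun m hm => ind_gen hab F (by rw [(hS.index hP).1]; exact hm)
  have hgN : ∀ m : ℕ, 4 ∣ m → IsGeneralizedCharacter P fun x : P => (m : ℂ) * ind N x :=
    fun m hm => ind_gen hab N (by rw [(hS.index hP).2]; exact hm)
  have hg0 : IsGeneralizedCharacter P fun x : P => ((16 : ℕ) : ℂ) * ind (⊥ : Subgroup G) x :=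
    ind_gen hab ⊥ (by rw [bot_index hP])
  have gW : IsGeneralizedCharacter P fun x : P => φW x := isGen_congr
    (Char.IsGeneralizedCharacter.add (Char.IsGeneralizedCharacter.sub
      (Char.IsGeneralizedCharacter.sub (hone 16) (hgF 16 (by norm_num))) (hgN 16 (by norm_num))) hg0)
    fun x => by simp only [φW, Pi.add_apply, Pi.sub_apply]; push_cast; ring
  have gX : IsGeneralizedCharacter P fun x : P => φX x := isGen_congr
    (Char.IsGeneralizedCharacter.sub (hone 4) (hgN 4 dvd_rfl))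
    fun x => by simp only [φX, Pi.sub_apply]; push_cast; ring
  have gY : IsGeneralizedCharacter P fun x : P => φY x := isGen_congr
    (Char.IsGeneralizedCharacter.sub (hone 4) (hgF 4 dvd_rfl))
    fun x => by simp only [φY, Pi.sub_apply]; push_cast; ring
  have gR : IsGeneralizedCharacter P fun x : P => φR x := isGen_congr hg0
    fun x => by simp only [φR]; push_cast; ring
  obtain ⟨W, hW, hWs⟩ := exists_intMat hM hmax sW gW fun x => by
    simp only [φW, map_mul, map_sub, map_add, map_one, ind_real, map_ofNat]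
  obtain ⟨X, hX, hXs⟩ := exists_intMat hM hmax sX gX fun x => by
    simp only [φX, map_mul, map_sub, map_one, ind_real, map_ofNat]
  obtain ⟨Y, hY, hYs⟩ := exists_intMat hM hmax sY gY fun x => by
    simp only [φY, map_mul, map_sub, map_one, ind_real, map_ofNat]
  obtain ⟨R, hR, hRs⟩ := exists_intMat hM hmax sR gR fun x => by
    simp only [φR, map_mul, ind_real, map_ofNat]
  have hW2 : W * W = (16 : ℤ) • W := intMat_mul hM hmax sW hW hW hW (by
    funext x
    simp only [φW, Pi.mul_apply, Pi.smul_apply, smul_eq_mul, Int.cast_ofNat]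
    rcases hcases x with ⟨a, b, c⟩ | ⟨a, b, c⟩ | ⟨a, b, c⟩ | ⟨a, b, c⟩ <;> rw [a, b, c] <;> ring)
  have hX2 : X * X = (4 : ℤ) • X := intMat_mul hM hmax sX hX hX hX (by
    funext x
    simp only [φX, Pi.mul_apply, Pi.smul_apply, smul_eq_mul, Int.cast_ofNat]
    rcases hcases x with ⟨a, b, c⟩ | ⟨a, b, c⟩ | ⟨a, b, c⟩ | ⟨a, b, c⟩ <;> rw [b] <;> ring)
  have hY2 : Y * Y = (4 : ℤ) • Y := intMat_mul hM hmax sY hY hY hY (by
    funext x
    simp only [φY, Pi.mul_apply, Pi.smul_apply, smul_eq_mul, Int.cast_ofNat]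
    rcases hcases x with ⟨a, b, c⟩ | ⟨a, b, c⟩ | ⟨a, b, c⟩ | ⟨a, b, c⟩ <;> rw [a] <;> ring)
  have hXW : X * W = (4 : ℤ) • W := intMat_mul hM hmax sX hW hX hW (by
    funext x
    simp only [φW, φX, Pi.mul_apply, Pi.smul_apply, smul_eq_mul, Int.cast_ofNat]
    rcases hcases x with ⟨a, b, c⟩ | ⟨a, b, c⟩ | ⟨a, b, c⟩ | ⟨a, b, c⟩ <;> rw [a, b, c] <;> ring)
  have hYW : Y * W = (4 : ℤ) • W := intMat_mul hM hmax sY hW hY hW (by
    funext x
    simp only [φW, φY, Pi.mul_apply, Pi.smul_apply, smul_eq_mul, Int.cast_ofNat]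
    rcases hcases x with ⟨a, b, c⟩ | ⟨a, b, c⟩ | ⟨a, b, c⟩ | ⟨a, b, c⟩ <;> rw [a, b, c] <;> ring)
  have hR2 : R * R = (16 : ℤ) • R := intMat_mul hM hmax sR hR hR hR (by
    funext x
    simp only [φR, Pi.mul_apply, Pi.smul_apply, smul_eq_mul, Int.cast_ofNat]
    rcases hcases x with ⟨a, b, c⟩ | ⟨a, b, c⟩ | ⟨a, b, c⟩ | ⟨a, b, c⟩ <;> rw [c] <;> ring)
  have hRdef : R = (16 : ℤ) • 1 + W - (4 : ℤ) • X - (4 : ℤ) • Y := by
    have hfun : φR + (4 : ℂ) • φX + (4 : ℂ) • φY = (16 : ℂ) • (1 : G → ℂ) + φW := by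
      funext x
      simp only [φR, φW, φX, φY, Pi.add_apply, Pi.smul_apply, Pi.one_apply, smul_eq_mul]
      ring
    have h := congrArg (mat 2 M B P e) hfun
    simp only [mat_add, mat_smul, mat_one hM hmax, ← hW, ← hX, ← hY, ← hR] at h
    ext i j
    have h' := congrFun (congrFun h i) j
    simp only [Matrix.add_apply, Matrix.smul_apply, Matrix.map_apply, smul_eq_mul,
      Matrix.one_apply, Matrix.sub_apply] at h' ⊢
    apply Int.cast_injective (α := ℂ)
    push_cast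
    linear_combination h'
  have hval : ∀ v : P, ((v : G) = 1 → ind F v = 1 ∧ ind N v = 1 ∧ ind ⊥ (v : G) = 1) ∧
      ((v : G) ∈ F → (v : G) ≠ 1 → ind F v = 1 ∧ ind N v = 0 ∧ ind ⊥ (v : G) = 0) ∧
      ((v : G) ∈ N → (v : G) ≠ 1 → ind F v = 0 ∧ ind N v = 1 ∧ ind ⊥ (v : G) = 0) ∧
      ((v : G) ∉ F → (v : G) ∉ N → ind F v = 0 ∧ ind N v = 0 ∧ ind ⊥ (v : G) = 0) := by
    intro v
    refine ⟨fun h => by rw [h]; exact ⟨ind_of_mem F.one_mem, ind_of_mem N.one_mem,
        ind_of_mem (one_mem _)⟩,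
      fun h h1 => ⟨ind_of_mem h, ind_of_notMem fun h' => h1 (hdisj _ h h'),
        ind_of_notMem fun h' => h1 (Subgroup.mem_bot.1 h')⟩,
      fun h h1 => ⟨ind_of_notMem fun h' => h1 (hdisj _ h' h), ind_of_mem h,
        ind_of_notMem fun h' => h1 (Subgroup.mem_bot.1 h')⟩,
      fun h h' => ⟨ind_of_notMem h, ind_of_notMem h', ind_of_notMem fun h'' => h (h0F h'')⟩⟩
  have hWt : W.trace = 16 := intMat_trace hM hmax hab sW hW (by
    rw [hsum (fun v => φW (v : G) * (lrank 2 M P e (Subgroup.zpowers (v : G)) : ℂ)) 0 0 0 16 ?_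
      ?_ ?_ ?_]
    · norm_num
    · obtain ⟨a, b, c⟩ := (hval 1).1 rfl
      simp only [φW, a, b, c]; ring
    · intro v h h1; obtain ⟨a, b, c⟩ := (hval v).2.1 h h1
      simp only [φW, a, b, c]; ring
    · intro v h h1; obtain ⟨a, b, c⟩ := (hval v).2.2.1 h h1
      simp only [φW, a, b, c]; ring
    · intro v h h'; obtain ⟨a, b, c⟩ := (hval v).2.2.2 h h'
      simp only [φW, a, b, c, hlU _ v.2 h h']; norm_num)
  have hXt : X.trace = 16 := intMat_trace hM hmax hab sX hX (by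
    rw [hsum (fun v => φX (v : G) * (lrank 2 M P e (Subgroup.zpowers (v : G)) : ℂ)) 0 12 0 4 ?_
      ?_ ?_ ?_]
    · norm_num
    · obtain ⟨a, b, c⟩ := (hval 1).1 rfl
      simp only [φX, b]; ring
    · intro v h h1; obtain ⟨a, b, c⟩ := (hval v).2.1 h h1
      simp only [φX, b, hlF _ h h1]; norm_num
    · intro v h h1; obtain ⟨a, b, c⟩ := (hval v).2.2.1 h h1
      simp only [φX, b]; ring
    · intro v h h'; obtain ⟨a, b, c⟩ := (hval v).2.2.2 h h'
      simp only [φX, b, hlU _ v.2 h h']; norm_num)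
  have hYt : Y.trace = 16 := intMat_trace hM hmax hab sY hY (by
    rw [hsum (fun v => φY (v : G) * (lrank 2 M P e (Subgroup.zpowers (v : G)) : ℂ)) 0 0 12 4 ?_
      ?_ ?_ ?_]
    · norm_num
    · obtain ⟨a, b, c⟩ := (hval 1).1 rfl
      simp only [φY, a]; ring
    · intro v h h1; obtain ⟨a, b, c⟩ := (hval v).2.1 h h1
      simp only [φY, a]; ring
    · intro v h h1; obtain ⟨a, b, c⟩ := (hval v).2.2.1 h h1
      simp only [φY, a, hlN _ h h1]; norm_num
    · intro v h h'; obtain ⟨a, b, c⟩ := (hval v).2.2.2 h h'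
      simp only [φY, a, hlU _ v.2 h h']; norm_num)
  have hU : f₀ * n₀ ∉ F ∧ f₀ * n₀ ∉ N :=
    ⟨fun h => hn₀1 ((hS.mem_left hf₀ hn₀).1 h), fun h => hf₀1 ((hS.mem_right hf₀ hn₀).1 h)⟩
  have h16 := card_eq_sixteen hWs hW2 hWt
    (intMat_diag hM hmax hab sW hW hWs hW2 (mul_mem (hFP hf₀) (hNP hn₀)) (by
      obtain ⟨a, b, c⟩ := (hval ⟨_, mul_mem (hFP hf₀) (hNP hn₀)⟩).2.2.2 hU.1 hU.2
      simp only [φW]
      rw [a, b, c]; norm_num))
    hXs hX2 hXW hXt hYs hY2 hYW hYt hRdef hR2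
    (intMat_diag hM hmax hab sR hR hRs hR2 P.one_mem (by
      simp [φR, ind_of_mem (one_mem (⊥ : Subgroup G))]))
    (by rw [← Nat.card_eq_fintype_card, hk]; omega)
  rw [← Nat.card_eq_fintype_card] at h16
  exact ⟨h16, by omega⟩

end Cfsg.Agent.E16Nine
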